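import Cfsg.Agent.OreSL.Triples

/-!
# Fields with two or three elements
-/

set_option autoImplicit false

namespace CfsgLib.OreSL

open Matrix Polynomial

variable {F : Type*} [Field F] {N : ℕ}

/-- The block diagonal matrix of a set of blocks. -/
def gb (B : Fin N → Blk F) (s : Finset (Fin N)) :
    Matrix (Σ i : s, Fin ((B i.1).m + 1)) (Σ i : s, Fin ((B i.1).m + 1)) F :=
  blockDiagonal' fun i => (B i.1).mat

/-- `M` is a copy of the blocks of `s`. -/
def Rep (B : Fin N → Blk F) (s : Finset (Fin N)) {α : Type*} [Fintype α] [DecidableEq α]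
    (M : Matrix α α F) : Prop :=
  ∃ e : α ≃ (Σ i : s, Fin ((B i.1).m + 1)), Matrix.reindex e e M = gb B s

theorem Rep.isComm {B : Fin N → Blk F} {s : Finset (Fin N)} {α : Type*} [Fintype α] [DecidableEq α]
    {M : Matrix α α F} (h : Rep B s M) (hM : IsComm M) : IsComm (gb B s) := by
  obtain ⟨e, he⟩ := h
  exact he ▸ hM.reindex e

theorem rep_self (B : Fin N → Blk F) (s : Finset (Fin N)) : Rep B s (gb B s) :=
  ⟨Equiv.refl _, by simp⟩

theorem rep_singleton (B : Fin N → Blk F) (a : Fin N) : Rep B {a} (B a).mat := by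
  classical
  refine ⟨Equiv.ofBijective (fun x => ⟨⟨a, Finset.mem_singleton_self a⟩, x⟩) ⟨?_, ?_⟩, ?_⟩
  · intro x y h
    simpa using h
  · rintro ⟨⟨i, hi⟩, x⟩
    obtain rfl := Finset.mem_singleton.mp hi
    exact ⟨x, rfl⟩
  · rw [← Equiv.eq_symm_apply]
    ext i j
    exact ((blockDiagonal'_apply_eq (fun k : ({a} : Finset (Fin N)) => (B k.1).mat)
      ⟨a, Finset.mem_singleton_self a⟩ i j)).symm

theorem Rep.union {B : Fin N → Blk F} {s t : Finset (Fin N)} (hd : _root_.Disjoint s t) {α β : Type*}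
    [Fintype α] [DecidableEq α] [Fintype β] [DecidableEq β] {M : Matrix α α F} {M' : Matrix β β F}
    (h : Rep B s M) (h' : Rep B t M') : Rep B (s ∪ t) (Matrix.fromBlocks M 0 0 M') := by
  classical
  obtain ⟨e, he⟩ := h
  obtain ⟨e', he'⟩ := h'
  let u : (Σ i : s, Fin ((B i.1).m + 1)) ⊕ (Σ i : t, Fin ((B i.1).m + 1)) →
      Σ i : ↥(s ∪ t), Fin ((B i.1).m + 1) :=
    Sum.elim (fun x => ⟨⟨x.1.1, Finset.mem_union_left _ x.1.2⟩, x.2⟩)
      fun x => ⟨⟨x.1.1, Finset.mem_union_right _ x.1.2⟩, x.2⟩
  have hu : Function.Bijective u := by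
    constructor
    · rintro (⟨⟨i, hi⟩, x⟩ | ⟨⟨i, hi⟩, x⟩) (⟨⟨j, hj⟩, y⟩ | ⟨⟨j, hj⟩, y⟩) hxy
      all_goals simp only [u, Sum.elim_inl, Sum.elim_inr, Sigma.mk.injEq, Subtype.mk.injEq] at hxy
      all_goals obtain ⟨rfl, hxy⟩ := hxy
      all_goals obtain rfl := eq_of_heq hxy
      · rfl
      · exact absurd hj (Finset.disjoint_left.mp hd hi)
      · exact absurd hi (Finset.disjoint_left.mp hd hj)
      · rfl
    · rintro ⟨⟨i, hi⟩, x⟩
      rcases Finset.mem_union.mp hi with h | h
      · exact ⟨Sum.inl ⟨⟨i, h⟩, x⟩, rfl⟩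
      · exact ⟨Sum.inr ⟨⟨i, h⟩, x⟩, rfl⟩
  refine ⟨(Equiv.sumCongr e e').trans (Equiv.ofBijective u hu), ?_⟩
  rw [← Equiv.eq_symm_apply]
  ext i j
  have hs : ∀ x y, gb B s (e x) (e y) = M x y := fun x y => by rw [← he]; simp
  have ht : ∀ x y, gb B t (e' x) (e' y) = M' x y := fun x y => by rw [← he']; simp
  rcases i with i | i <;> rcases j with j | j <;>
    simp only [fromBlocks_apply₁₁, fromBlocks_apply₁₂, fromBlocks_apply₂₁, fromBlocks_apply₂₂,
      Matrix.zero_apply, Matrix.reindex_symm, Matrix.reindex_apply, Equiv.symm_symm, submatrix_apply,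
      Equiv.trans_apply, Equiv.sumCongr_apply, Sum.map_inl, Sum.map_inr, Equiv.ofBijective_apply, u,
      Sum.elim_inl, Sum.elim_inr]
  · rw [← hs]
    generalize e i = x
    generalize e j = y
    obtain ⟨⟨a, ha⟩, x⟩ := x
    obtain ⟨⟨b, hb⟩, y⟩ := y
    rcases eq_or_ne a b with rfl | hab
    · simp [gb, blockDiagonal'_apply_eq]
    · simp [gb, blockDiagonal'_apply_ne, hab]
  · generalize e i = x
    generalize e' j = y
    obtain ⟨⟨a, ha⟩, x⟩ := x
    obtain ⟨⟨b, hb⟩, y⟩ := y
    have hab : a ≠ b := fun h => Finset.disjoint_left.mp hd ha (h ▸ hb)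
    simp [gb, blockDiagonal'_apply_ne, hab]
  · generalize e' i = x
    generalize e j = y
    obtain ⟨⟨a, ha⟩, x⟩ := x
    obtain ⟨⟨b, hb⟩, y⟩ := y
    have hab : a ≠ b := fun h => Finset.disjoint_left.mp hd hb (h ▸ ha)
    simp [gb, blockDiagonal'_apply_ne, hab]
  · rw [← ht]
    generalize e' i = x
    generalize e' j = y
    obtain ⟨⟨a, ha⟩, x⟩ := x
    obtain ⟨⟨b, hb⟩, y⟩ := y
    rcases eq_or_ne a b with rfl | hab
    · simp [gb, blockDiagonal'_apply_eq]
    · simp [gb, blockDiagonal'_apply_ne, hab]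

theorem isComm_union {B : Fin N → Blk F} {s t : Finset (Fin N)} (hd : _root_.Disjoint s t)
    (hs : IsComm (gb B s)) (ht : IsComm (gb B t)) : IsComm (gb B (s ∪ t)) :=
  ((rep_self B s).union hd (rep_self B t)).isComm (hs.fromBlocks ht)

theorem det_sigmaDiagonal (B : Fin N → Blk F) :
    (blockDiagonal' fun i => (B i).mat).det = ∏ i, (B i).mat.det := by
  classical
  rw [Matrix.BlockTriangular.det_fintype (b := Sigma.fst)]
  · refine Finset.prod_congr rfl fun i _ => ?_
    let s : {x : Σ k, Fin ((B k).m + 1) // x.1 = i} ≃ Fin ((B i).m + 1) :=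
      { toFun := fun x => x.2 ▸ x.1.2
        invFun := fun x => ⟨⟨i, x⟩, rfl⟩
        left_inv := by rintro ⟨⟨k, x⟩, rfl⟩; rfl
        right_inv := fun x => rfl }
    rw [← det_reindex_self s.symm (B i).mat]
    congr 1
    ext ⟨⟨k, x⟩, hx⟩ ⟨⟨l, y⟩, hy⟩
    obtain rfl : k = i := hx
    obtain rfl : l = k := hy
    exact blockDiagonal'_apply_eq (fun i => (B i).mat) _ x y
  · rintro ⟨i, x⟩ ⟨j, y⟩ h
    exact blockDiagonal'_apply_ne _ _ _ (ne_of_gt h)

/-- An even number of blocks of one determinant. -/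
theorem isComm_even [Fintype F] (hq : Fintype.card F = 2 ∨ Fintype.card F = 3)
    (hu : ∀ t : F, t ≠ 0 → t = 1 ∨ t = -1) (B : Fin N → Blk F) {ε : F} (hε : ε ≠ 0) :
    ∀ (k : ℕ) (s : Finset (Fin N)), s.card = 2 * k → (∀ i ∈ s, (B i).mat.det = ε) →
      IsComm (gb B s) := by
  classical
  intro k
  induction k with
  | zero =>
    intro s hs _
    obtain rfl := Finset.card_eq_zero.mp (by simpa using hs)
    haveI : IsEmpty (↥(∅ : Finset (Fin N))) := ⟨fun i => Finset.notMem_empty _ i.2⟩
    rw [show gb B ∅ = 1 from Subsingleton.elim _ _]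
    exact isComm_one
  | succ k ih =>
    intro s hs hdet
    obtain ⟨a, ha, b, hb, hab⟩ := Finset.one_lt_card.mp (show 1 < s.card by omega)
    set t := (s.erase a).erase b
    have hst : s = ({a} ∪ {b}) ∪ t := by
      ext i
      simp only [t, Finset.mem_union, Finset.mem_singleton, Finset.mem_erase]
      constructor
      · intro hi; tauto
      · rintro ((rfl | rfl) | ⟨-, -, h⟩) <;> assumption
    have hd1 : _root_.Disjoint ({a} : Finset (Fin N)) {b} := by simpa using hab
    have hd2 : _root_.Disjoint ({a} ∪ {b}) t := by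
      rw [Finset.disjoint_left]
      intro i hi
      simp only [Finset.mem_union, Finset.mem_singleton] at hi
      simp only [t, Finset.mem_erase]
      tauto
    have htc : t.card = 2 * k := by
      rw [Finset.card_erase_of_mem (Finset.mem_erase.mpr ⟨hab.symm, hb⟩), Finset.card_erase_of_mem ha, hs]
      omega
    rw [hst]
    exact isComm_union hd2
      (((rep_singleton B a).union hd1 (rep_singleton B b)).isComm
        (isComm_pair hq hu (B a) (B b) hε (hdet a ha) (hdet b hb)))
      (ih t htc fun i hi => hdet i (Finset.mem_of_mem_erase (Finset.mem_of_mem_erase hi)))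

/-- Nonscalar or scalar, every unimodular matrix of size at least three over a field with two or three
elements is a commutator. -/
theorem isComm_small [Fintype F] (hq : Fintype.card F = 2 ∨ Fintype.card F = 3) {n : ℕ} (hn : 3 ≤ n)
    (g : Matrix (Fin n) (Fin n) F) (hdet : g.det = 1) : IsComm g := by
  classical
  have hu : ∀ t : F, t ≠ 0 → t = 1 ∨ t = -1 := by
    intro t ht
    have h := FiniteField.pow_card_sub_one_eq_one t ht
    rcases hq with hq | hq <;> rw [hq] at h <;> norm_num at h
    · exact Or.inl h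
    · exact h
  obtain ⟨N, B, e, hsim⟩ := exists_decomp g
  refine IsComm.of_reindex e (IsComm.of_sim ?_ hsim.symm)
  suffices h : IsComm (gb B Finset.univ) by
    let f : (Σ i : ↥(Finset.univ : Finset (Fin N)), Fin ((B i.1).m + 1)) ≃ (Σ i, Fin ((B i).m + 1)) :=
      Equiv.sigmaCongrLeft (β := fun i => Fin ((B i).m + 1))
        (Equiv.subtypeUnivEquiv Finset.mem_univ)
    convert h.reindex f
    ext x y
    obtain ⟨⟨⟨a, ha⟩, x⟩, rfl⟩ := f.surjective x
    obtain ⟨⟨⟨b, hb⟩, y⟩, rfl⟩ := f.surjective y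
    rw [Matrix.reindex_apply, submatrix_apply, Equiv.symm_apply_apply, Equiv.symm_apply_apply]
    show blockDiagonal' (fun i => (B i).mat) ⟨a, x⟩ ⟨b, y⟩ = gb B Finset.univ ⟨⟨a, ha⟩, x⟩ ⟨⟨b, hb⟩, y⟩
    rcases eq_or_ne a b with rfl | hab
    · simp [gb, blockDiagonal'_apply_eq]
    · simp [gb, blockDiagonal'_apply_ne, hab]
  -- determinants
  have hprod : ∏ i, (B i).mat.det = 1 := by
    rw [← det_sigmaDiagonal, ← hsim.det_eq, det_reindex_self, hdet]
  have hB0 : ∀ i, (B i).mat.det ≠ 0 := fun i h0 => by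
    rw [Finset.prod_eq_zero (Finset.mem_univ i) h0] at hprod
    exact zero_ne_one hprod
  set Q := Finset.univ.filter fun i => (B i).mat.det = 1
  set P := Finset.univ.filter fun i => ¬ (B i).mat.det = 1
  have hPQ : (Finset.univ : Finset (Fin N)) = Q ∪ P := (Finset.filter_union_filter_not_eq _ _).symm
  have hdPQ : _root_.Disjoint Q P := Finset.disjoint_filter_filter_not _ _ _
  have hQd : ∀ i ∈ Q, (B i).mat.det = 1 := fun i hi => (Finset.mem_filter.mp hi).2
  have hPd : ∀ i ∈ P, (B i).mat.det = -1 := fun i hi =>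
    (hu _ (hB0 i)).resolve_left (Finset.mem_filter.mp hi).2
  obtain ⟨k, hk⟩ : Even P.card := by
    rcases Finset.eq_empty_or_nonempty P with h | ⟨i, hi⟩
    · simp [h]
    by_contra hodd
    rw [← Finset.univ.prod_filter_mul_prod_filter_not (fun i => (B i).mat.det = 1),
      Finset.prod_eq_one hQd, one_mul, Finset.prod_congr rfl hPd, Finset.prod_const,
      (Nat.not_even_iff_odd.mp hodd).neg_one_pow] at hprod
    exact (Finset.mem_filter.mp hi).2 ((hPd i hi).trans hprod)
  have hone : (1 : F) ≠ 0 := one_ne_zero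
  have hmone : (-1 : F) ≠ 0 := neg_ne_zero.mpr one_ne_zero
  have hPc : IsComm (gb B P) := isComm_even hq hu B hmone k P (by omega) hPd
  rw [hPQ]
  rcases Nat.even_or_odd Q.card with ⟨j, hj⟩ | hQo
  · exact isComm_union hdPQ (isComm_even hq hu B hone j Q (by omega) hQd) hPc
  obtain ⟨j, hj⟩ := hQo
  by_cases hex : ∃ a ∈ Q, (B a).m ≠ 1
  · obtain ⟨a, ha, hm⟩ := hex
    refine isComm_union hdPQ ?_ hPc
    have hQ : Q = {a} ∪ Q.erase a := by rw [← Finset.insert_eq, Finset.insert_erase ha]
    rw [hQ]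
    refine isComm_union (by simp) ((rep_singleton B a).isComm (isComm_single hq (B a) (hQd a ha) hm)) ?_
    exact isComm_even hq hu B hone j _ (by rw [Finset.card_erase_of_mem ha]; omega)
      fun i hi => hQd i (Finset.mem_of_mem_erase hi)
  push Not at hex
  rcases Nat.eq_zero_or_pos j with rfl | hjpos
  · -- a single block of determinant one
    obtain ⟨a, ha⟩ := Finset.card_eq_one.mp (show Q.card = 1 by omega)
    have haQ : a ∈ Q := by rw [ha]; exact Finset.mem_singleton_self a
    have hk0 : 0 < k := by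
      by_contra hk0
      have hP0 : P = ∅ := Finset.card_eq_zero.mp (by omega)
      have hc := Fintype.card_congr e
      rw [Fintype.card_fin, Fintype.card_sigma, hPQ, hP0, Finset.union_empty, ha, Finset.sum_singleton,
        Fintype.card_fin, hex a haQ] at hc
      omega
    have h3 : Fintype.card F = 3 := by
      rcases hq with h | h
      · exfalso
        obtain ⟨i, hi⟩ := Finset.card_pos.mp (show 0 < P.card by omega)
        have h2 : (2 : F) = 0 := by
          have := FiniteField.cast_card_eq_zero F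
          rw [h] at this
          exact_mod_cast this
        exact (Finset.mem_filter.mp hi).2 ((hPd i hi).trans (by linear_combination -h2))
      · exact h
    obtain ⟨b, hb, d, hd, hbd⟩ := Finset.one_lt_card.mp (show 1 < P.card by omega)
    have hab : a ≠ b := fun h => Finset.disjoint_left.mp hdPQ haQ (h ▸ hb)
    have had : a ≠ d := fun h => Finset.disjoint_left.mp hdPQ haQ (h ▸ hd)
    have hsplit : Q ∪ P = (({a} ∪ {b}) ∪ {d}) ∪ (P.erase b).erase d := by
      ext i
      simp only [ha, Finset.mem_union, Finset.mem_singleton, Finset.mem_erase]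
      constructor
      · intro hi; tauto
      · rintro (((rfl | rfl) | rfl) | ⟨-, -, h⟩) <;> tauto
    rw [hsplit]
    refine isComm_union ?_ ?_ ?_
    · rw [Finset.disjoint_left]
      intro i hi
      simp only [Finset.mem_union, Finset.mem_singleton] at hi
      simp only [Finset.mem_erase]
      rintro ⟨h1, h2, h4⟩
      rcases hi with (rfl | rfl) | rfl
      · exact Finset.disjoint_left.mp hdPQ haQ h4
      · exact h2 rfl
      · exact h1 rfl
    · exact ((((rep_singleton B a).union (by simpa using hab) (rep_singleton B b)).union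
        (by simp [had.symm, hbd.symm]) (rep_singleton B d))).isComm
        (isComm_triple_two h3 hu _ _ _ (hQd a haQ) (hPd b hb) (hPd d hd))
    · refine isComm_even hq hu B hmone (k - 1) _ ?_
        fun i hi => hPd i (Finset.mem_of_mem_erase (Finset.mem_of_mem_erase hi))
      rw [Finset.card_erase_of_mem (Finset.mem_erase.mpr ⟨hbd.symm, hd⟩), Finset.card_erase_of_mem hb]
      omega
  · -- at least three blocks of size two
    refine isComm_union hdPQ ?_ hPc
    obtain ⟨a, b, d, ha, hb, hd, hab, had, hbd⟩ := Finset.two_lt_card_iff.mp (show 2 < Q.card by omega)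
    have hsplit : Q = (({a} ∪ {b}) ∪ {d}) ∪ ((Q.erase a).erase b).erase d := by
      ext i
      simp only [Finset.mem_union, Finset.mem_singleton, Finset.mem_erase]
      constructor
      · intro hi; tauto
      · rintro (((rfl | rfl) | rfl) | ⟨-, -, -, h⟩) <;> assumption
    rw [hsplit]
    refine isComm_union ?_ ?_ ?_
    · rw [Finset.disjoint_left]
      intro i hi
      simp only [Finset.mem_union, Finset.mem_singleton] at hi
      simp only [Finset.mem_erase]
      tauto
    · exact ((((rep_singleton B a).union (by simpa using hab) (rep_singleton B b)).union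
        (by simp [had.symm, hbd.symm]) (rep_singleton B d))).isComm
        (isComm_triple_one hu _ _ _ (hex a ha) (hex b hb) (hex d hd) (hQd a ha) (hQd b hb) (hQd d hd))
    · refine isComm_even hq hu B hone (j - 1) _ ?_
        fun i hi => hQd i (Finset.mem_of_mem_erase (Finset.mem_of_mem_erase (Finset.mem_of_mem_erase hi)))
      rw [Finset.card_erase_of_mem (Finset.mem_erase.mpr ⟨hbd.symm, Finset.mem_erase.mpr ⟨had.symm, hd⟩⟩),
        Finset.card_erase_of_mem (Finset.mem_erase.mpr ⟨hab.symm, hb⟩), Finset.card_erase_of_mem ha]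
      omega

end CfsgLib.OreSL
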