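import Cfsg.Agent.OreSL.Basic
import Mathlib.Data.Matrix.Block
import Mathlib.FieldTheory.Finite.Basic
import Mathlib.LinearAlgebra.Matrix.Permutation

/-!
# Scalar matrices as commutators
-/

set_option autoImplicit false

namespace CfsgLib.OreSL

open Matrix

variable {F : Type*} [Field F] {ι : Type*} [Fintype ι] [DecidableEq ι]

/-- A monomial matrix. -/
def mono (σ : Equiv.Perm ι) (s : ι → F) : Matrix ι ι F :=
  Matrix.of fun i j => if i = σ j then s j else 0

theorem det_mono_ne_zero (σ : Equiv.Perm ι) {s : ι → F} (hs : ∀ i, s i ≠ 0) : (mono σ s).det ≠ 0 := by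
  have h : mono σ s = Equiv.Perm.permMatrix F σ.symm * diagonal s := by
    ext i j
    rw [mul_diagonal]
    simp [mono, Equiv.Perm.permMatrix, Equiv.symm_apply_eq]
  rw [h, det_mul, det_permutation, det_diagonal]
  refine mul_ne_zero ?_ (Finset.prod_ne_zero_iff.mpr fun i _ => hs i)
  rcases Int.units_eq_one_or (Equiv.Perm.sign σ.symm) with e | e <;> simp [e]

theorem mono_mul_diagonal (σ : Equiv.Perm ι) (s t : ι → F) :
    mono σ s * diagonal t = mono σ fun j => s j * t j := by
  ext i j
  simp [mono, mul_diagonal]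

theorem diagonal_mul_mono (σ : Equiv.Perm ι) (s t : ι → F) :
    diagonal t * mono σ s = mono σ fun j => t (σ j) * s j := by
  ext i j
  simp only [diagonal_mul, mono, Matrix.of_apply]
  split_ifs with h
  · rw [h]
  · simp

theorem mono_mul_apply (σ : Equiv.Perm ι) (s : ι → F) (M : Matrix ι ι F) (i j : ι) :
    (mono σ s * M) (σ i) j = s i * M i j := by
  rw [Matrix.mul_apply, Finset.sum_eq_single i]
  · simp [mono]
  · intro b _ hb
    simp [mono, hb.symm]
  · simp

theorem mul_mono_apply (σ : Equiv.Perm ι) (s : ι → F) (M : Matrix ι ι F) (i j : ι) :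
    (M * mono σ s) i j = M i (σ j) * s j := by
  rw [Matrix.mul_apply, Finset.sum_eq_single (σ j)]
  · simp [mono]
  · intro b _ hb
    simp [mono, hb]
  · simp

/-- The diagonal-and-cycle commutator. -/
theorem isComm_scalar_cycle {n : ℕ} [NeZero n] {l : F} (hl : l ^ n = 1)
    (h : l ^ (n * (n - 1) / 2) = 1) : IsComm (l • (1 : Matrix (Fin n) (Fin n) F)) := by
  classical
  have hl0 : l ≠ 0 := fun e => by simp [e, zero_pow (NeZero.ne n)] at hl
  set σ : Equiv.Perm (Fin n) := Equiv.addRight 1
  set d : Fin n → F := fun i => l ^ i.val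
  obtain ⟨δ, hδ⟩ : ∃ δ, (mono σ (1 : Fin n → F)).det = δ := ⟨_, rfl⟩
  have hδ0 : δ ≠ 0 := hδ ▸ det_mono_ne_zero σ (fun _ => one_ne_zero)
  set s : Fin n → F := fun i => if i = 0 then δ⁻¹ else 1
  refine ⟨diagonal d, mono σ s, ?_, ?_, ?_⟩
  · rw [det_diagonal, Finset.prod_pow_eq_pow_sum, Fin.sum_univ_eq_sum_range (fun i => i) n,
      Finset.sum_range_id, h]
  · have : mono σ s = mono σ 1 * diagonal s := by rw [mono_mul_diagonal]; simp
    rw [this, det_mul, hδ, det_diagonal]
    simp [s, hδ0]
  · rw [mono_mul_diagonal, diagonal_mul_mono, Matrix.smul_mul, Matrix.one_mul]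
    ext i j
    simp only [mono, Matrix.smul_apply, Matrix.of_apply, smul_eq_mul]
    split_ifs with hij
    · have hd : l * d j = d (σ j) := by
        simp only [d, σ, Equiv.coe_addRight]
        obtain ⟨m, rfl⟩ : ∃ m, n = m + 1 := ⟨n - 1, by have := NeZero.ne n; omega⟩
        rw [Fin.val_add_one, ← pow_succ']
        split_ifs with hlast
        · rw [hlast, Fin.val_last, hl, pow_zero]
        · rfl
      rw [← hd]
      ring
    · rw [mul_zero]

theorem exists_norm_value [Fintype F] (h2 : ringChar F ≠ 2) {z : F} (hz : z ≠ 0) (t : F) :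
    ∃ a b : F, a ^ 2 - z * b ^ 2 = t := by
  open Polynomial in
  obtain ⟨a, b, h⟩ := FiniteField.exists_root_sum_quadratic (f := X ^ 2 - C t)
    (g := C (-z) * X ^ 2) (degree_X_pow_sub_C two_pos t) (degree_C_mul_X_pow 2 (neg_ne_zero.mpr hz))
    (FiniteField.odd_card_of_char_ne_two h2)
  simp only [Polynomial.eval_sub, Polynomial.eval_pow, Polynomial.eval_X, Polynomial.eval_C,
    Polynomial.eval_mul] at h
  exact ⟨a, b, by linear_combination h⟩

/-- The blockwise commutator for scalars whose half power is `-1`. -/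
theorem isComm_scalar_blocks [Fintype F] {h : ℕ} [NeZero h] (h2 : ringChar F ≠ 2) {l : F}
    (hl : l ^ h = -1) : IsComm (l • (1 : Matrix (Fin 2 × Fin h) (Fin 2 × Fin h) F)) := by
  classical
  have hl0 : l ≠ 0 := fun e => by simp [e, zero_pow (NeZero.ne h)] at hl
  set σ : Equiv.Perm (Fin h) := Equiv.addRight 1
  set z : Fin h → F := fun j => l ^ (2 * j.val + 1) with hz
  have hzσ : ∀ j, z (σ j) = l ^ 2 * z j := by
    intro j
    simp only [z, σ, Equiv.coe_addRight]
    obtain ⟨m, rfl⟩ : ∃ m, h = m + 1 := ⟨h - 1, by have := NeZero.ne h; omega⟩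
    rw [Fin.val_add_one]
    split_ifs with hlast
    · rw [hlast, Fin.val_last, ← pow_add, show 2 + (2 * m + 1) = (m + 1) + (m + 1) + 1 by ring,
        pow_add, pow_add, pow_add (m := m + 1), hl]
      simp
    · ring
  set X := blockDiagonal fun j => !![0, z j; 1, 0] with hX
  set τ : Equiv.Perm (Fin 2 × Fin h) := (Equiv.refl _).prodCongr σ
  set s : Fin 2 × Fin h → F := fun p => if p.1 = 0 then 1 else l⁻¹
  set Y₀ := mono τ s
  have hY₀ : Y₀.det ≠ 0 := det_mono_ne_zero τ fun p => by
    simp only [s]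
    split_ifs <;> simp [hl0]
  obtain ⟨a, b, hab⟩ := exists_norm_value h2 (z := z 0) (pow_ne_zero _ hl0) Y₀.det⁻¹
  set W := blockDiagonal fun j : Fin h => if j = 0 then !![a, b * z 0; b, a] else 1
  have hWX : W * X = X * W := by
    simp only [W, X, ← blockDiagonal_mul]
    congr 1
    funext j
    split_ifs with hj
    · subst hj
      ext i k
      fin_cases i <;> fin_cases k <;> simp [Matrix.mul_apply, Fin.sum_univ_two] <;> ring
    · simp
  have hYX : l • (Y₀ * X) = X * Y₀ := by
    ext ⟨i, j⟩ ⟨k, m⟩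
    obtain ⟨j, rfl⟩ := σ.surjective j
    have hτ : τ (i, j) = (i, σ j) := rfl
    have hτ' : τ (k, m) = (k, σ m) := rfl
    rw [Matrix.smul_apply, smul_eq_mul, mul_mono_apply, hτ', ← hτ, mono_mul_apply, hτ]
    simp only [X, blockDiagonal_apply, σ.injective.eq_iff]
    split_ifs with hjm
    · subst hjm
      fin_cases i <;> fin_cases k <;> simp [s, hzσ]
      all_goals field_simp
    · simp
  refine ⟨X, W * Y₀, ?_, ?_, ?_⟩
  · rw [hX, det_blockDiagonal]
    simp only [det_fin_two, Matrix.cons_val', Matrix.cons_val_zero, Matrix.cons_val_one,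
      Matrix.of_apply, Matrix.empty_val', Matrix.cons_val_fin_one, mul_zero, mul_one, zero_mul,
      zero_sub]
    rw [Finset.prod_neg, Finset.card_univ, Fintype.card_fin, hz, Finset.prod_pow_eq_pow_sum,
      Finset.sum_add_distrib, ← Finset.mul_sum, Fin.sum_univ_eq_sum_range (fun i => i) h,
      Finset.sum_range_id, Finset.sum_const, Finset.card_univ, Fintype.card_fin, smul_eq_mul, mul_one]
    have : 2 * (h * (h - 1) / 2) + h = h * h := by
      rw [Nat.mul_div_cancel' (by
        obtain ⟨m, rfl⟩ : ∃ m, h = m + 1 := ⟨h - 1, by have := NeZero.ne h; omega⟩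
        simpa [mul_comm] using (Nat.even_mul_succ_self m).two_dvd)]
      obtain ⟨m, rfl⟩ : ∃ m, h = m + 1 := ⟨h - 1, by have := NeZero.ne h; omega⟩
      simp only [Nat.add_sub_cancel]
      ring
    rw [this, pow_mul, hl, ← mul_pow]
    simp
  · rw [det_mul, show W.det = a ^ 2 - z 0 * b ^ 2 by
      simp only [W]
      rw [det_blockDiagonal, Finset.prod_eq_single (0 : Fin h) (fun j _ hj => by simp [hj]) (by simp),
        if_pos rfl, det_fin_two]
      simp
      ring, hab, inv_mul_cancel₀ hY₀]
  · rw [Matrix.smul_mul, Matrix.one_mul, Matrix.mul_assoc, ← Matrix.mul_smul, hYX, ← Matrix.mul_assoc,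
      hWX, Matrix.mul_assoc]

/-- Scalar matrices of determinant one are commutators. -/
theorem isComm_scalar [Fintype F] {n : ℕ} (hn : 0 < n) {l : F} (hl : l ^ n = 1) :
    IsComm (l • (1 : Matrix (Fin n) (Fin n) F)) := by
  haveI : NeZero n := ⟨hn.ne'⟩
  by_cases h : l ^ (n * (n - 1) / 2) = 1
  · exact isComm_scalar_cycle hl h
  obtain ⟨m, hm⟩ | ⟨m, hm⟩ := Nat.even_or_odd n
  · have hhalf : n * (n - 1) / 2 = m * (n - 1) := by
      rw [show n * (n - 1) = 2 * (m * (n - 1)) by rw [hm]; ring, Nat.mul_div_cancel_left _ two_pos]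
    have hm2 : l ^ m * l ^ m = 1 := by rw [← pow_add, ← hm, hl]
    rcases mul_self_eq_one_iff.mp hm2 with e | e
    · exact absurd (by rw [hhalf, pow_mul, e, one_pow]) h
    · haveI : NeZero m := ⟨by omega⟩
      have h2 : ringChar F ≠ 2 := by
        intro hc
        haveI : CharP F 2 := ringChar.eq_iff.mp hc
        exact h (by rw [hhalf, pow_mul, e, CharTwo.neg_eq, one_pow])
      have := (isComm_scalar_blocks h2 e).reindex
        (finProdFinEquiv.trans (finCongr (show 2 * m = n by omega)))
      rw [reindex_apply, submatrix_smul, Pi.smul_apply, Pi.smul_apply, submatrix_one_equiv] at this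
      exact this
  · exact absurd (by
      rw [show n * (n - 1) / 2 = n * m by
        rw [show n * (n - 1) = 2 * (n * m) by rw [show n - 1 = 2 * m by omega]; ring,
          Nat.mul_div_cancel_left _ two_pos], pow_mul, hl, one_pow]) h

end CfsgLib.OreSL
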