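import Mathlib.LinearAlgebra.Matrix.NonsingularInverse
import Mathlib.LinearAlgebra.Matrix.SchurComplement
import Mathlib.LinearAlgebra.Matrix.SpecialLinearGroup

/-!
# Commutators of unimodular matrices

`IsComm g` says that `g` is the commutator of two matrices of determinant one; it is stated without
inverses, so that it can be transported along arbitrary index types.
-/

set_option autoImplicit false

namespace CfsgLib.OreSL

open Matrix

variable {F : Type*} [Field F] {ι κ : Type*} [Fintype ι] [DecidableEq ι] [Fintype κ] [DecidableEq κ]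

/-- `M` and `N` are similar. -/
def Sim (M N : Matrix ι ι F) : Prop := ∃ P : Matrix ι ι F, P.det ≠ 0 ∧ P * M = N * P

/-- `g` is the commutator of two matrices of determinant one. -/
def IsComm (g : Matrix ι ι F) : Prop :=
  ∃ x y : Matrix ι ι F, x.det = 1 ∧ y.det = 1 ∧ g * (y * x) = x * y

theorem Sim.refl (M : Matrix ι ι F) : Sim M M := ⟨1, by simp, by simp⟩

theorem Sim.of_eq {M N : Matrix ι ι F} (h : M = N) : Sim M N := h ▸ Sim.refl M

theorem Sim.symm {M N : Matrix ι ι F} (h : Sim M N) : Sim N M := by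
  obtain ⟨P, hP, h⟩ := h
  have hu : IsUnit P.det := isUnit_iff_ne_zero.2 hP
  refine ⟨P⁻¹, ?_, ?_⟩
  · rw [det_nonsing_inv, Ring.inverse_eq_inv']
    exact inv_ne_zero hP
  · calc P⁻¹ * N = P⁻¹ * (N * P) * P⁻¹ := by
          rw [Matrix.mul_assoc, Matrix.mul_assoc N, mul_nonsing_inv _ hu, Matrix.mul_one]
      _ = M * P⁻¹ := by
          rw [← h, ← Matrix.mul_assoc P⁻¹, nonsing_inv_mul _ hu, Matrix.one_mul]

theorem Sim.trans {M N O : Matrix ι ι F} (h₁ : Sim M N) (h₂ : Sim N O) : Sim M O := by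
  obtain ⟨P, hP, h₁⟩ := h₁
  obtain ⟨Q, hQ, h₂⟩ := h₂
  exact ⟨Q * P, by rw [det_mul]; exact mul_ne_zero hQ hP,
    by rw [Matrix.mul_assoc, h₁, ← Matrix.mul_assoc, h₂, Matrix.mul_assoc]⟩

theorem Sim.of_units {M N : Matrix ι ι F} (X : (Matrix ι ι F)ˣ)
    (h : M = (X : Matrix ι ι F) * N * (↑(X⁻¹) : Matrix ι ι F)) : Sim N M :=
  ⟨X, ((Matrix.isUnit_iff_isUnit_det _).mp X.isUnit).ne_zero,
    by rw [h]; simp [Matrix.mul_assoc]⟩

theorem Sim.det_eq {M N : Matrix ι ι F} (h : Sim M N) : M.det = N.det := by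
  obtain ⟨P, hP, h⟩ := h
  have := congrArg Matrix.det h
  rw [det_mul, det_mul, mul_comm N.det] at this
  exact mul_left_cancel₀ hP this

theorem Sim.reindex {M N : Matrix ι ι F} (h : Sim M N) (e : ι ≃ κ) :
    Sim (Matrix.reindex e e M) (Matrix.reindex e e N) := by
  obtain ⟨P, hP, h⟩ := h
  refine ⟨Matrix.reindex e e P, by rwa [det_reindex_self], ?_⟩
  simp only [reindex_apply, submatrix_mul_equiv, h]

theorem Sim.fromBlocks {M N : Matrix ι ι F} {M' N' : Matrix κ κ F} (h : Sim M N) (h' : Sim M' N') :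
    Sim (Matrix.fromBlocks M 0 0 M') (Matrix.fromBlocks N 0 0 N') := by
  obtain ⟨P, hP, h⟩ := h
  obtain ⟨Q, hQ, h'⟩ := h'
  refine ⟨Matrix.fromBlocks P 0 0 Q, by rw [det_fromBlocks_zero₂₁]; exact mul_ne_zero hP hQ, ?_⟩
  simp [fromBlocks_multiply, h, h']

theorem isComm_one : IsComm (1 : Matrix ι ι F) := ⟨1, 1, det_one, det_one, by simp⟩

theorem IsComm.of_sim {g g' : Matrix ι ι F} (h : IsComm g) (hs : Sim g g') : IsComm g' := by
  obtain ⟨x, y, hx, hy, hxy⟩ := h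
  obtain ⟨P, hP, hPg⟩ := hs
  have hu : IsUnit P.det := isUnit_iff_ne_zero.2 hP
  have hd : ∀ z : Matrix ι ι F, (P * z * P⁻¹).det = z.det := fun z => det_conj
    ((Matrix.isUnit_iff_isUnit_det P).2 hu) z
  refine ⟨P * x * P⁻¹, P * y * P⁻¹, by rw [hd, hx], by rw [hd, hy], ?_⟩
  have hmul : ∀ a b : Matrix ι ι F, P * a * P⁻¹ * (P * b * P⁻¹) = P * (a * b) * P⁻¹ := fun a b => by
    simp only [Matrix.mul_assoc]
    rw [← Matrix.mul_assoc P⁻¹ P, nonsing_inv_mul _ hu, Matrix.one_mul]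
  rw [hmul, hmul, ← hxy]
  simp only [← Matrix.mul_assoc]
  rw [← hPg]

theorem IsComm.reindex {g : Matrix ι ι F} (h : IsComm g) (e : ι ≃ κ) :
    IsComm (Matrix.reindex e e g) := by
  obtain ⟨x, y, hx, hy, hxy⟩ := h
  refine ⟨Matrix.reindex e e x, Matrix.reindex e e y, by rwa [det_reindex_self],
    by rwa [det_reindex_self], ?_⟩
  simp only [reindex_apply, submatrix_mul_equiv, hxy]

theorem IsComm.of_reindex {g : Matrix ι ι F} (e : ι ≃ κ) (h : IsComm (Matrix.reindex e e g)) :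
    IsComm g := by
  have := h.reindex e.symm
  simpa using this

theorem IsComm.fromBlocks {g : Matrix ι ι F} {g' : Matrix κ κ F} (h : IsComm g) (h' : IsComm g') :
    IsComm (Matrix.fromBlocks g 0 0 g') := by
  obtain ⟨x, y, hx, hy, hxy⟩ := h
  obtain ⟨x', y', hx', hy', hxy'⟩ := h'
  refine ⟨Matrix.fromBlocks x 0 0 x', Matrix.fromBlocks y 0 0 y', by
    rw [det_fromBlocks_zero₂₁, hx, hx', mul_one], by rw [det_fromBlocks_zero₂₁, hy, hy', mul_one], ?_⟩
  simp [fromBlocks_multiply, hxy, hxy']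

/-- A witness `Y` with an arbitrary conjugator suffices, provided its centraliser corrects the
determinant. -/
theorem isComm_of_witness {g Y C : Matrix ι ι F} (hY : Y.det = 1) (h : g * (Y * C) = C * Y)
    (hZ : ∃ Z : Matrix ι ι F, Z * Y = Y * Z ∧ C.det * Z.det = 1) : IsComm g := by
  obtain ⟨Z, hZY, hZd⟩ := hZ
  refine ⟨C * Z, Y, by rwa [det_mul], hY, ?_⟩
  rw [← Matrix.mul_assoc Y, ← Matrix.mul_assoc g, h, Matrix.mul_assoc, ← hZY, Matrix.mul_assoc]

/-- From matrices to the special linear group. -/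
theorem IsComm.exists_sl {g : Matrix.SpecialLinearGroup ι F} (h : IsComm (g : Matrix ι ι F)) :
    ∃ a b : Matrix.SpecialLinearGroup ι F, g = a * b * a⁻¹ * b⁻¹ := by
  obtain ⟨x, y, hx, hy, hxy⟩ := h
  obtain ⟨a, ha⟩ : ∃ a : Matrix.SpecialLinearGroup ι F, (a : Matrix ι ι F) = x := ⟨⟨x, hx⟩, rfl⟩
  obtain ⟨b, hb⟩ : ∃ b : Matrix.SpecialLinearGroup ι F, (b : Matrix ι ι F) = y := ⟨⟨y, hy⟩, rfl⟩
  refine ⟨a, b, ?_⟩
  have h' : g * (b * a) = a * b := Subtype.ext (by simp [ha, hb, hxy])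
  rw [eq_mul_inv_of_mul_eq h', _root_.mul_inv_rev, ← _root_.mul_assoc]

end CfsgLib.OreSL
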