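import Cfsg.Agent.OreSL.Witness
import Mathlib.LinearAlgebra.Dimension.Free
import Mathlib.LinearAlgebra.Dimension.OrzechProperty

/-!
# Corners of cyclic matrices

Every cyclic matrix of size `m + 1` is similar to one whose leading block is a prescribed cyclic
matrix of size `m`.
-/

set_option autoImplicit false

namespace CfsgLib.OreSL

open Matrix

variable {F : Type*} [Field F]

/-- `A` has, up to similarity, the leading block `G` with Schur complement `S`. -/
def Corner {α ι κ : Type*} [Fintype α] [DecidableEq α] [Fintype ι] [DecidableEq ι] [Fintype κ]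
    [DecidableEq κ] (A : Matrix α α F) (G : Matrix ι ι F) (S : Matrix κ κ F) : Prop :=
  ∃ (e : α ≃ ι ⊕ κ) (r : Matrix ι κ F) (l : Matrix κ ι F),
    Sim (Matrix.reindex e e A) (Matrix.fromBlocks G (G * r) (l * G) (l * G * r + S))

section Closure

variable {α α' ι ι' κ κ' : Type*} [Fintype α] [DecidableEq α] [Fintype ι] [DecidableEq ι] [Fintype κ]
  [DecidableEq κ] [Fintype α'] [DecidableEq α'] [Fintype ι'] [DecidableEq ι'] [Fintype κ'] [DecidableEq κ']
  {A : Matrix α α F} {G : Matrix ι ι F} {S : Matrix κ κ F}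

theorem Corner.sum (h : Corner A G S) {A' : Matrix α' α' F} {G' : Matrix ι' ι' F} {S' : Matrix κ' κ' F}
    (h' : Corner A' G' S') :
    Corner (Matrix.fromBlocks A 0 0 A') (Matrix.fromBlocks G 0 0 G') (Matrix.fromBlocks S 0 0 S') := by
  obtain ⟨e, r, l, hs⟩ := h
  obtain ⟨e', r', l', hs'⟩ := h'
  refine ⟨(Equiv.sumCongr e e').trans (Equiv.sumSumSumComm ι κ ι' κ'), Matrix.fromBlocks r 0 0 r',
    Matrix.fromBlocks l 0 0 l', ?_⟩
  have h1 := (hs.fromBlocks hs').reindex (Equiv.sumSumSumComm ι κ ι' κ')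
  convert h1 using 1
  · ext i j
    rcases i with (i | i) | (i | i) <;> rcases j with (j | j) | (j | j) <;> rfl
  · ext i j
    rcases i with (i | i) | (i | i) <;> rcases j with (j | j) | (j | j) <;>
      simp [fromBlocks_multiply, Matrix.reindex_apply, Equiv.sumSumSumComm]

/-- A corner with witnesses of disjoint spectra gives a commutator. -/
theorem Corner.isComm (h : Corner A G S) {Y₁ C₁ : Matrix ι ι F} {Y₂ C₂ : Matrix κ κ F}
    {p : Polynomial F} (hd : Disjoint p Y₁ Y₂) (hy : Y₁.det * Y₂.det = 1) (hC₁ : C₁.det ≠ 0)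
    (hC₂ : C₂.det ≠ 0) (h₁ : G * (Y₁ * C₁) = C₁ * Y₁) (h₂ : S * (Y₂ * C₂) = C₂ * Y₂)
    (hZ : ∀ t : F, t ≠ 0 → ∃ Z₂ : Matrix κ κ F, Z₂ * Y₂ = Y₂ * Z₂ ∧ Z₂.det = t) : IsComm A := by
  obtain ⟨e, r, l, hs⟩ := h
  obtain ⟨Y, C, hY, hC, hw, hcent⟩ := exists_witness hd hC₁ hC₂ h₁ h₂ r l
  refine IsComm.of_reindex e (IsComm.of_sim (isComm_of_witness (hY.trans hy) hw ?_) hs.symm)
  obtain ⟨Z₂, hZ₂, hZ₂d⟩ := hZ C.det⁻¹ (inv_ne_zero (by rw [hC]; exact mul_ne_zero hC₁ hC₂))
  obtain ⟨Z, hZ, hZd⟩ := hcent 1 Z₂ (by rw [Matrix.one_mul, Matrix.mul_one]) hZ₂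
  refine ⟨Z, hZ, ?_⟩
  rw [hZd, det_one, one_mul, hZ₂d, mul_inv_cancel₀ (by rw [hC]; exact mul_ne_zero hC₁ hC₂)]

end Closure

/-- Every cyclic matrix has every cyclic unimodular corner. -/
theorem corner_of_cyc {m : ℕ} {A : Matrix (Fin (m + 1)) (Fin (m + 1)) F} (hA : IsCyc A)
    {G : Matrix (Fin m) (Fin m) F} (hG : IsCyc G) (hdet : G.det = 1) :
    Corner A G (Matrix.of fun _ _ : Unit => A.det) := by
  classical
  obtain ⟨v, hv⟩ := hA
  obtain ⟨w, hw⟩ := hG
  let bv : Module.Basis (Fin (m + 1)) F (Fin (m + 1) → F) :=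
    basisOfLinearIndependentOfCardEqFinrank hv (by simp)
  have hbv : ∀ i, bv i = (A ^ (i : ℕ)) *ᵥ v := fun i => by simp [bv]
  have hbw : ∃ bw : Module.Basis (Fin m) F (Fin m → F), ∀ i, bw i = (G ^ (i : ℕ)) *ᵥ w := by
    rcases Nat.eq_zero_or_pos m with rfl | hm
    · exact ⟨Pi.basisFun F (Fin 0), fun i => i.elim0⟩
    · haveI : Nonempty (Fin m) := ⟨⟨0, hm⟩⟩
      exact ⟨basisOfLinearIndependentOfCardEqFinrank hw (by simp), fun i => by simp⟩
  obtain ⟨bw, hbw⟩ := hbw
  set T : (Fin m → F) →ₗ[F] (Fin (m + 1) → F) := bw.constr F fun i => (A ^ (i : ℕ)) *ᵥ v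
  have hT : ∀ k, k < m → T (G ^ k *ᵥ w) = (A ^ k) *ᵥ v := fun k hk => by
    have h := bw.constr_basis F (fun i => (A ^ (i : ℕ)) *ᵥ v) ⟨k, hk⟩
    rwa [hbw] at h
  set u := (A ^ m) *ᵥ v - T ((G ^ m) *ᵥ w) with hu
  -- the deviation of `T` from intertwining
  have hdev : ∀ x : Fin m → F, ∃ c : F, A *ᵥ T x = T (G *ᵥ x) + c • u := by
    intro x
    have hx : x ∈ Submodule.span F (Set.range bw) := by rw [bw.span_eq]; exact Submodule.mem_top
    induction hx using Submodule.span_induction with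
    | mem y hy =>
      obtain ⟨i, rfl⟩ := hy
      rw [hbw, hT _ i.isLt, mulVec_mulVec, mulVec_mulVec, ← pow_succ', ← pow_succ']
      rcases Nat.lt_or_ge (i.val + 1) m with h | h
      · exact ⟨0, by rw [hT _ h, zero_smul, add_zero]⟩
      · refine ⟨1, ?_⟩
        rw [show i.val + 1 = m by omega, one_smul, hu]
        abel
    | zero => exact ⟨0, by simp⟩
    | add y z _ _ hy hz =>
      obtain ⟨c, hc⟩ := hy
      obtain ⟨d, hd⟩ := hz
      exact ⟨c + d, by rw [map_add, mulVec_add, hc, hd, mulVec_add, map_add, add_smul]; abel⟩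
    | smul a y _ hy =>
      obtain ⟨c, hc⟩ := hy
      exact ⟨a * c, by rw [map_smul, mulVec_smul, hc, mulVec_smul, map_smul, smul_add, mul_smul]⟩
  choose c hc using hdev
  set f : Fin m ⊕ Unit → Fin (m + 1) → F := Sum.elim (fun i => T (Pi.single i 1)) fun _ => u
  have hspan : ⊤ ≤ Submodule.span F (Set.range f) := by
    have hTm : ∀ x, T x ∈ Submodule.span F (Set.range f) := by
      intro x
      rw [pi_eq_sum_univ' x, map_sum]
      refine Submodule.sum_mem _ fun i _ => ?_
      rw [map_smul]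
      exact Submodule.smul_mem _ _ (Submodule.subset_span ⟨Sum.inl i, rfl⟩)
    rw [← bv.span_eq, Submodule.span_le]
    rintro _ ⟨i, rfl⟩
    rw [hbv]
    rcases Nat.lt_or_ge i.val m with h | h
    · rw [← hT _ h]
      exact hTm _
    · have e : (A ^ (i : ℕ)) *ᵥ v = u + T ((G ^ m) *ᵥ w) := by
        rw [show i.val = m by omega, hu, sub_add_cancel]
      rw [e]
      exact Submodule.add_mem _ (Submodule.subset_span ⟨Sum.inr (), rfl⟩) (hTm _)
  let b : Module.Basis (Fin m ⊕ Unit) F (Fin (m + 1) → F) :=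
    basisOfTopLeSpanOfCardEqFinrank f hspan (by simp)
  have hb : ∀ i, b i = f i := fun i => by simp [b]
  set H := LinearMap.toMatrix b b (Matrix.toLin' A) with hH
  have h11 : H.toBlocks₁₁ = G := by
    ext i j
    have e : b.repr (A *ᵥ T (Pi.single j 1)) =
        ∑ k, G k j • Finsupp.single (Sum.inl k) 1 + c (Pi.single j 1) • Finsupp.single (Sum.inr ()) 1 := by
      rw [hc, pi_eq_sum_univ' (G *ᵥ Pi.single j 1), map_sum, map_add, map_sum, map_smul]
      congr 1
      · refine Finset.sum_congr rfl fun k _ => ?_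
        rw [map_smul, map_smul]
        simp only [mulVec_single_one, col_apply]
        congr 1
        exact (congrArg b.repr (hb (Sum.inl k)).symm).trans (b.repr_self _)
      · congr 1
        exact (congrArg b.repr (hb (Sum.inr ())).symm).trans (b.repr_self _)
    simp only [toBlocks₁₁, Matrix.of_apply, hH, LinearMap.toMatrix_apply, hb, Matrix.toLin'_apply]
    change b.repr (A *ᵥ T (Pi.single j 1)) (Sum.inl i) = G i j
    rw [e]
    simp [Finsupp.single_apply]
  set ee : Fin (m + 1) ≃ Fin m ⊕ Unit :=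
    (finSuccEquiv' (Fin.last m)).trans (Equiv.optionEquivSumPUnit _) with hee
  have hsim : Sim (Matrix.reindex ee ee A) H := by
    let bf := (Pi.basisFun F (Fin (m + 1))).reindex ee
    refine ⟨b.toMatrix bf, ?_, ?_⟩
    · have h1 := congrArg Matrix.det (b.toMatrix_mul_toMatrix_flip bf)
      rw [det_mul, det_one] at h1
      intro e0
      rw [e0, zero_mul] at h1
      exact zero_ne_one h1
    · have hA' : LinearMap.toMatrix bf bf (Matrix.toLin' A) = Matrix.reindex ee ee A := by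
        ext i j
        simp [bf, LinearMap.toMatrix_apply, Matrix.mulVec_single]
      rw [← hA', hH]
      rw [basis_toMatrix_mul_linearMap_toMatrix, linearMap_toMatrix_mul_basis_toMatrix]
  have hGu : IsUnit G.det := by rw [hdet]; exact isUnit_one
  set r := G⁻¹ * H.toBlocks₁₂
  set l := H.toBlocks₂₁ * G⁻¹
  set S := H.toBlocks₂₂ - l * G * r
  have hblocks : H = Matrix.fromBlocks G (G * r) (l * G) (l * G * r + S) := by
    have e1 : G * r = H.toBlocks₁₂ := by
      simp only [r]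
      rw [← Matrix.mul_assoc, mul_nonsing_inv _ hGu, Matrix.one_mul]
    have e2 : l * G = H.toBlocks₂₁ := by
      simp only [l]
      rw [Matrix.mul_assoc, nonsing_inv_mul _ hGu, Matrix.mul_one]
    have e3 : l * G * r + S = H.toBlocks₂₂ := add_sub_cancel _ _
    rw [e3, e1, e2, ← h11, fromBlocks_toBlocks]
  refine ⟨ee, r, l, hsim.trans (Sim.of_eq ?_)⟩
  rw [hblocks]
  congr 2
  -- the Schur complement is the determinant
  have hd : H.det = A.det := by
    rw [hH, LinearMap.det_toMatrix, LinearMap.det_toLin']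
  have hf : Matrix.fromBlocks G (G * r) (l * G) (l * G * r + S) =
      Matrix.fromBlocks 1 0 l 1 * Matrix.fromBlocks G (G * r) 0 S := by
    rw [fromBlocks_multiply]
    simp only [Matrix.one_mul, Matrix.mul_zero, Matrix.zero_mul, add_zero, ← Matrix.mul_assoc]
  rw [hblocks, hf, det_mul, det_fromBlocks_zero₁₂, det_fromBlocks_zero₂₁, hdet, det_one, det_one,
    one_mul, one_mul, one_mul, det_unique] at hd
  ext i j
  simp only [Matrix.of_apply]
  exact hd

end CfsgLib.OreSL
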