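import Cfsg.Agent.OreSL.Corner
import Cfsg.Agent.GLClass.Modules

/-!
# Decomposition into cyclic blocks
-/

set_option autoImplicit false

namespace CfsgLib.OreSL

open Matrix Polynomial

variable {F : Type*} [Field F]

/-- A cyclic block of positive size. -/
structure Blk (F : Type*) [Field F] where
  /-- One less than the size. -/
  m : ℕ
  /-- The matrix. -/
  mat : Matrix (Fin (m + 1)) (Fin (m + 1)) F
  cyc : IsCyc mat

theorem exists_block {f : F[X]} (hf : f.Monic) (hd : 0 < f.natDegree) :
    ∃ (B : Blk F) (b : Module.Basis (Fin (B.m + 1)) F (F[X] ⧸ Submodule.span F[X] {f})),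
      LinearMap.toMatrix b b
        (((X : F[X]) • LinearMap.id : (F[X] ⧸ Submodule.span F[X] {f}) →ₗ[F[X]] _).restrictScalars F) =
        B.mat := by
  classical
  obtain ⟨m, hm⟩ : ∃ m, f.natDegree = m + 1 := ⟨f.natDegree - 1, by omega⟩
  set Q := F[X] ⧸ Submodule.span F[X] {f}
  set one : Q := Submodule.Quotient.mk 1
  have hli : LinearIndependent F fun k : Fin (m + 1) => ((X : F[X]) ^ (k : ℕ)) • one := by
    rw [Fintype.linearIndependent_iff]
    intro c hc k
    have h : Submodule.Quotient.mk (p := Submodule.span F[X] {f})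
        (∑ i : Fin (m + 1), C (c i) * X ^ (i : ℕ)) = 0 := by
      rw [← hc, ← Submodule.mkQ_apply, map_sum]
      refine Finset.sum_congr rfl fun i _ => ?_
      rw [← algebraMap_smul F[X] (c i) (((X : F[X]) ^ (i : ℕ)) • one), smul_smul, Polynomial.algebraMap_eq,
        Submodule.mkQ_apply, ← Submodule.Quotient.mk_smul, smul_eq_mul, mul_one]
    rw [Submodule.Quotient.mk_eq_zero, Submodule.mem_span_singleton] at h
    obtain ⟨q, hq⟩ := h
    have hdeg : (∑ i : Fin (m + 1), C (c i) * X ^ (i : ℕ)).degree < f.degree := by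
      rw [Polynomial.degree_eq_natDegree hf.ne_zero, hm]
      exact degree_sum_fin_lt c
    have h0 : q = 0 := by
      by_contra hq0
      rw [← hq, smul_eq_mul, degree_mul] at hdeg
      have : (0 : WithBot ℕ) ≤ q.degree := zero_le_degree_iff.mpr hq0
      exact absurd hdeg (not_lt.mpr (le_add_of_nonneg_left this))
    rw [h0, zero_smul] at hq
    have := congrArg (fun p => p.coeff (k : ℕ)) hq.symm
    simpa [Fin.val_inj] using this
  have hrank : Module.finrank F Q = m + 1 := by
    rw [← hm]
    exact finrank_quotient_span_eq_natDegree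
  let b : Module.Basis (Fin (m + 1)) F Q := basisOfLinearIndependentOfCardEqFinrank hli (by simp [hrank])
  have hb : ∀ k, b k = ((X : F[X]) ^ (k : ℕ)) • one := fun k => by simp [b]
  set T : Q →ₗ[F] Q := ((X : F[X]) • LinearMap.id : Q →ₗ[F[X]] Q).restrictScalars F
  refine ⟨⟨m, LinearMap.toMatrix b b T, b.repr one, ?_⟩, b, rfl⟩
  have hpow : ∀ (k : ℕ) (x : Q), (T ^ k) x = ((X : F[X]) ^ k) • x := by
    intro k x
    induction k with
    | zero => simp
    | succ k ih =>
      rw [pow_succ', Module.End.mul_apply, ih, pow_succ', mul_smul]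
      rfl
  have he : (fun i : Fin (m + 1) => LinearMap.toMatrix b b T ^ (i : ℕ) *ᵥ (b.repr one : Fin (m + 1) → F)) =
      ⇑b.equivFun.toLinearMap ∘ fun i : Fin (m + 1) => ((X : F[X]) ^ (i : ℕ)) • one := by
    funext i
    rw [show LinearMap.toMatrix b b T ^ (i : ℕ) = LinearMap.toMatrix b b (T ^ (i : ℕ)) from
      (map_pow (LinearMap.toMatrixAlgEquiv b) T _).symm, LinearMap.toMatrix_mulVec_repr, hpow]
    rfl
  rw [he]
  exact hli.map' _ b.equivFun.ker

/-- Every matrix is similar to a block diagonal one with cyclic blocks. -/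
theorem exists_decomp {n : ℕ} (A : Matrix (Fin n) (Fin n) F) :
    ∃ (N : ℕ) (B : Fin N → Blk F) (e : Fin n ≃ (Σ i, Fin ((B i).m + 1))),
      Sim (Matrix.reindex e e A) (blockDiagonal' fun i => (B i).mat) := by
  classical
  obtain ⟨N, p, e, hpe, ⟨φ⟩⟩ := GLClass.exists_data A
  have hd : ∀ i, 0 < (p i ^ e i).natDegree := fun i => by
    rw [natDegree_pow]
    exact Nat.mul_pos (hpe i).2.2 (hpe i).2.1.natDegree_pos
  choose B b hb using fun i => exists_block ((hpe i).1.pow (e i)) (hd i)
  let J : (Fin n → F) ≃ₗ[F] GLClass.Model p e :=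
    (Module.AEval'.of (Matrix.toLin' A)).trans (φ.restrictScalars F)
  have hJ : ∀ v, J (Matrix.toLin' A v) = (X : F[X]) • J v := by
    intro v
    show φ (Module.AEval'.of (Matrix.toLin' A) (Matrix.toLin' A v)) = _
    rw [← Module.AEval'.X_smul_of, map_smul]
    rfl
  let bb : Module.Basis (Σ i, Fin ((B i).m + 1)) F (Fin n → F) := (Pi.basis b).map J.symm
  have hcard : Fintype.card (Fin n) = Fintype.card (Σ i, Fin ((B i).m + 1)) := by
    rw [← Module.finrank_eq_card_basis bb, Module.finrank_fin_fun, Fintype.card_fin]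
  let ee := Fintype.equivOfCardEq hcard
  refine ⟨N, B, ee, ?_⟩
  let bf := (Pi.basisFun F (Fin n)).reindex ee
  have hA' : LinearMap.toMatrix bf bf (Matrix.toLin' A) = Matrix.reindex ee ee A := by
    ext i j
    simp [bf, LinearMap.toMatrix_apply, Matrix.mulVec_single]
  have hM : LinearMap.toMatrix bb bb (Matrix.toLin' A) = blockDiagonal' fun i => (B i).mat := by
    ext ⟨i, k⟩ ⟨j, l⟩
    rw [LinearMap.toMatrix_apply]
    simp only [bb, Module.Basis.map_apply, Module.Basis.map_repr, LinearEquiv.trans_apply,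
      LinearEquiv.symm_symm]
    rw [hJ, LinearEquiv.apply_symm_apply, Pi.basis_repr, Pi.basis_apply, Pi.smul_apply]
    rcases eq_or_ne i j with rfl | hij
    · rw [blockDiagonal'_apply_eq, Pi.single_eq_same, ← hb i, LinearMap.toMatrix_apply]
      rfl
    · rw [blockDiagonal'_apply_ne _ _ _ hij, Pi.single_eq_of_ne hij, smul_zero, map_zero]
      rfl
  refine ⟨bb.toMatrix bf, ?_, ?_⟩
  · have h1 := congrArg Matrix.det (bb.toMatrix_mul_toMatrix_flip bf)
    rw [det_mul, det_one] at h1
    intro e0
    rw [e0, zero_mul] at h1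
    exact zero_ne_one h1
  · rw [← hA', ← hM, basis_toMatrix_mul_linearMap_toMatrix, linearMap_toMatrix_mul_basis_toMatrix]

end CfsgLib.OreSL
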