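import Cfsg.Agent.OreSL.Decomp
import Mathlib.FieldTheory.Finite.Basic

/-!
# Small fields: groups of cyclic blocks that are commutators
-/

set_option autoImplicit false

namespace CfsgLib.OreSL

open Matrix Polynomial

variable {F : Type*} [Field F]

/-- A prescribed corner with witness avoiding the roots of `p`. -/
def LeadWit (p : F[X]) (m : ℕ) : Prop :=
  ∃ G Y C : Matrix (Fin m) (Fin m) F, G.det = 1 ∧ Y.det = 1 ∧ C.det ≠ 0 ∧ G * (Y * C) = C * Y ∧
    IsCyc G ∧ (aeval Y p).det ≠ 0

theorem det_eq_one_of_witness {ι : Type*} [Fintype ι] [DecidableEq ι] {G Y C : Matrix ι ι F}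
    (hY : Y.det = 1) (hC : C.det ≠ 0) (h : G * (Y * C) = C * Y) : G.det = 1 := by
  have := congrArg Matrix.det h
  rw [det_mul, det_mul, det_mul, hY, one_mul, mul_one] at this
  exact (mul_eq_right₀ hC).mp this

theorem leadWit_zero (p : F[X]) : LeadWit p 0 := by
  refine ⟨1, 1, 1, det_one, det_one, by simp, by simp, ⟨0, linearIndependent_empty_type⟩, ?_⟩
  rw [det_fin_zero]
  exact one_ne_zero

theorem leadWit_one {p : F[X]} (hp : p.eval 1 ≠ 0) : LeadWit p 1 := by
  refine ⟨1, 1, 1, det_one, det_one, by simp, by simp, ⟨1, ?_⟩, ?_⟩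
  · rw [Fintype.linearIndependent_iff]
    intro c hc i
    have := congrFun hc 0
    fin_cases i
    simpa using this
  · rw [← map_one (algebraMap F (Matrix (Fin 1) (Fin 1) F)), aeval_algebraMap_apply, det_unique]
    simpa [Matrix.algebraMap_eq_diagonal] using hp

theorem leadWit_of_small [Fintype F] (hq : Fintype.card F = 2 ∨ Fintype.card F = 3) {p p₁ p₂ : F[X]}
    (hp : p = p₁ * p₂) (h₁ : p₁.natDegree ≤ 2) (h₂ : p₂.natDegree ≤ 2) (he : p.eval 1 ≠ 0) (m : ℕ) :
    LeadWit p m := by
  rcases Nat.lt_or_ge m 3 with hm | hm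
  · interval_cases m
    · exact leadWit_zero p
    · exact leadWit_one he
    · obtain ⟨G, Y, C, hY, hC, h, hG, hd⟩ := exists_unipotent_witness (F := F)
      exact ⟨G, Y, C, det_eq_one_of_witness hY hC h, hY, hC, h, hG, hd p he⟩
  · obtain ⟨G, Y, C, hY, hC, h, hG, hd⟩ := exists_field_witness hq (by omega : 2 ≤ m) (fun _ => hm)
    refine ⟨G, Y, C, det_eq_one_of_witness hY hC h, hY, hC, h, hG, ?_⟩
    have h0 : p₁ * p₂ ≠ 0 := fun e => he (by rw [hp, e, eval_zero])
    rw [hp, map_mul, det_mul]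
    exact mul_ne_zero (hd _ (left_ne_zero_of_mul h0) (by omega))
      (hd _ (right_ne_zero_of_mul h0) (by omega))

theorem fin_two_cyc {G : Matrix (Fin 2) (Fin 2) F} (h : G 1 0 ≠ 0) : IsCyc G := by
  refine ⟨![1, 0], ?_⟩
  rw [Fintype.linearIndependent_iff]
  intro c hc
  have e0 := congrFun hc 0
  have e1 := congrFun hc 1
  simp [Fin.sum_univ_two, Matrix.mulVec, dotProduct] at e0 e1
  rcases e1 with e1 | e1
  · intro i
    fin_cases i
    · simpa [e1] using e0
    · exact e1
  · exact absurd e1 h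

theorem leadWit_single [Fintype F] (hq : Fintype.card F = 2 ∨ Fintype.card F = 3) {m : ℕ} (hm : 2 ≤ m) :
    LeadWit (X - 1 : F[X]) m := by
  by_cases hm3 : Fintype.card F = 3 → 3 ≤ m
  · obtain ⟨G, Y, C, hY, hC, h, hG, hd⟩ := exists_field_witness hq hm hm3
    refine ⟨G, Y, C, det_eq_one_of_witness hY hC h, hY, hC, h, hG, hd _ (X_sub_C_ne_zero 1) ?_⟩
    rw [← map_one (Polynomial.C : F →+* F[X]), natDegree_X_sub_C]
    omega
  · push Not at hm3
    obtain rfl : m = 2 := by omega
    have h3 : (3 : F) = 0 := by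
      have := FiniteField.cast_card_eq_zero F
      rw [hm3.1] at this
      exact_mod_cast this
    have h2 : (2 : F) ≠ 0 := fun e => one_ne_zero (by linear_combination h3 - e : (1 : F) = 0)
    refine ⟨!![-1, -1; -1, 1], !![0, -1; 1, 0], !![0, 1; 1, 1], ?_, by simp [det_fin_two],
      by simp [det_fin_two], ?_, fin_two_cyc (by simp), ?_⟩
    · rw [det_fin_two_of]
      linear_combination (-1 : F) * h3
    · ext i j
      fin_cases i <;> fin_cases j <;> simp [Matrix.mul_apply, Fin.sum_univ_two]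
      all_goals linear_combination h3
    · rw [map_sub, aeval_X, map_one, one_fin_two, det_fin_two]
      simp
      norm_num
      exact h2

theorem Corner.reindexRight {α ι κ κ' : Type*} [Fintype α] [DecidableEq α] [Fintype ι] [DecidableEq ι]
    [Fintype κ] [DecidableEq κ] [Fintype κ'] [DecidableEq κ'] {A : Matrix α α F} {G : Matrix ι ι F}
    {S : Matrix κ κ F} (h : Corner A G S) (f : κ ≃ κ') : Corner A G (Matrix.reindex f f S) := by
  obtain ⟨e, r, l, hs⟩ := h
  refine ⟨e.trans (Equiv.sumCongr (Equiv.refl ι) f), r.submatrix id f.symm, l.submatrix f.symm id, ?_⟩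
  convert hs.reindex (Equiv.sumCongr (Equiv.refl ι) f) using 1
  all_goals
    ext i j
    rcases i with i | i <;> rcases j with j | j <;> simp [Matrix.mul_apply, Matrix.reindex_apply]

theorem aeval_fromBlocks {ι κ : Type*} [Fintype ι] [DecidableEq ι] [Fintype κ] [DecidableEq κ]
    (A : Matrix ι ι F) (B : Matrix κ κ F) (p : F[X]) :
    aeval (Matrix.fromBlocks A 0 0 B) p = Matrix.fromBlocks (aeval A p) 0 0 (aeval B p) := by
  induction p using Polynomial.induction_on' with
  | add p q hp hq =>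
    rw [map_add, map_add, map_add, hp, hq, fromBlocks_add, add_zero, add_zero]
  | monomial k a =>
    have hk : (Matrix.fromBlocks A 0 0 B) ^ k = Matrix.fromBlocks (A ^ k) 0 0 (B ^ k) := by
      induction k with
      | zero => simp [fromBlocks_one]
      | succ k ih => rw [pow_succ, ih, fromBlocks_multiply]; simp [pow_succ]
    simp only [aeval_monomial, ← Algebra.smul_def, hk, fromBlocks_smul, smul_zero]

/-- Two blocks of the same determinant `±1`. -/
theorem isComm_pair [Fintype F] (hq : Fintype.card F = 2 ∨ Fintype.card F = 3)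
    (hu : ∀ t : F, t ≠ 0 → t = 1 ∨ t = -1) (A B : Blk F)
    {ε : F} (hε0 : ε ≠ 0) (hA : A.mat.det = ε) (hB : B.mat.det = ε) :
    IsComm (Matrix.fromBlocks A.mat 0 0 B.mat) := by
  classical
  obtain ⟨Y, C, Z, p, p₁, hY, hC, hw, hd, hp, hdeg, he, hZ⟩ :
      ∃ (Y C Z : Matrix (Fin 2) (Fin 2) F) (p p₁ : F[X]), Y.det = 1 ∧ C.det ≠ 0 ∧
        diagonal (fun _ => ε) * (Y * C) = C * Y ∧ aeval Y p = 0 ∧ p = p₁ * 1 ∧ p₁.natDegree ≤ 2 ∧
        p.eval 1 ≠ 0 ∧ (Z * Y = Y * Z ∧ Z.det = -1) := by
    rcases hq with hq | hq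
    · have h2 : (2 : F) = 0 := by
        have := FiniteField.cast_card_eq_zero F
        rw [hq] at this
        exact_mod_cast this
      have hε1 : ε = 1 := by
        rcases hu ε hε0 with e | e
        · exact e
        · rw [e]; linear_combination (-1 : F) * h2
      refine ⟨!![0, -1; 1, -1], 1, 1, X ^ 2 + X + 1, X ^ 2 + X + 1, by simp [det_fin_two], by simp, ?_,
        ?_, (mul_one _).symm, by compute_degree, ?_, by simp, ?_⟩
      · subst hε1; simp
      · ext i j
        fin_cases i <;> fin_cases j <;> simp [sq, Matrix.mul_apply, Fin.sum_univ_two]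
      · simp
        intro h
        exact one_ne_zero (by linear_combination h - h2 : (1 : F) = 0)
      · rw [det_one]; linear_combination h2
    · have h3 : (3 : F) = 0 := by
        have := FiniteField.cast_card_eq_zero F
        rw [hq] at this
        exact_mod_cast this
      have h2 : (2 : F) ≠ 0 := fun e => one_ne_zero (by linear_combination h3 - e : (1 : F) = 0)
      refine ⟨!![0, -1; 1, 0], if ε = 1 then 1 else !![1, 1; 1, -1], !![1, -1; 1, 1], X ^ 2 + 1,
        X ^ 2 + 1, by simp [det_fin_two], ?_, ?_, ?_, (mul_one _).symm, by compute_degree, ?_, ?_, ?_⟩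
      · split_ifs
        · simp
        · rw [det_fin_two_of]
          intro e
          exact h2 (by linear_combination -e)
      · split_ifs with h
        · subst h; simp
        · obtain rfl : ε = -1 := (hu ε hε0).resolve_left h
          ext i j
          fin_cases i <;> fin_cases j <;> simp [Matrix.mul_apply, Fin.sum_univ_two, diagonal]
      · ext i j
        fin_cases i <;> fin_cases j <;> simp [sq, Matrix.mul_apply, Fin.sum_univ_two]
      · simpa [one_add_one_eq_two] using h2
      · ext i j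
        fin_cases i <;> fin_cases j <;> simp [Matrix.mul_apply, Fin.sum_univ_two]
      · rw [det_fin_two_of]
        linear_combination h3
  obtain ⟨G, Y₁, C₁, hG, hY₁, hC₁, hw₁, hGc, hd₁⟩ :=
    leadWit_of_small hq hp hdeg (by simp) he A.m
  obtain ⟨G', Y₁', C₁', hG', hY₁', hC₁', hw₁', hGc', hd₁'⟩ :=
    leadWit_of_small hq hp hdeg (by simp) he B.m
  have hc := ((corner_of_cyc A.cyc hGc hG).sum (corner_of_cyc B.cyc hGc' hG')).reindexRight
    ((Equiv.sumCongr finOneEquiv.symm finOneEquiv.symm).trans finSumFinEquiv : Unit ⊕ Unit ≃ Fin 2)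
  refine hc.isComm (Y₁ := Matrix.fromBlocks Y₁ 0 0 Y₁') (C₁ := Matrix.fromBlocks C₁ 0 0 C₁') (Y₂ := Y)
    (C₂ := C) (p := p) ⟨?_, hd⟩ ?_ ?_ hC ?_ ?_ ?_
  · rw [aeval_fromBlocks, det_fromBlocks_zero₂₁]
    exact mul_ne_zero hd₁ hd₁'
  · rw [det_fromBlocks_zero₂₁, hY₁, hY₁', hY, one_mul, one_mul]
  · rw [det_fromBlocks_zero₂₁]; exact mul_ne_zero hC₁ hC₁'
  · simp [fromBlocks_multiply, hw₁, hw₁']
  · rw [← hw]
    congr 1
    ext i j
    rw [hA, hB]
    fin_cases i <;> fin_cases j <;> simp [finSumFinEquiv, finOneEquiv, diagonal, Fin.addCases]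
  · intro t ht
    rcases hu t ht with rfl | rfl
    · exact ⟨1, by simp, det_one⟩
    · exact ⟨Z, hZ⟩

end CfsgLib.OreSL
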