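import Cfsg.Agent.OreSL.Schur
import Cfsg.Agent.Sourour.Transvection

/-!
# Nonscalar elements over fields with at least four elements

`g` is similar to `L * U` with both factors regular unipotent; inserting a diagonal matrix `D` makes
the two factors similar to a fixed matrix `T` and to its inverse.
-/

set_option autoImplicit false

namespace CfsgLib.OreSL

open Matrix Polynomial CfsgLib.Sourour CfsgLib.RegUnip

variable {F : Type*} [Field F] {k : ℕ}

/-- The model matrix with eigenvalues `a`, `b` and `1`. -/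
def model (a b : F) (k : ℕ) : Matrix (Fin 2 ⊕ Fin k) (Fin 2 ⊕ Fin k) F :=
  Matrix.fromBlocks (diagonal ![a, b]) 0 0 uMat

/-- The inserted diagonal. -/
def diagD (a b : F) (k : ℕ) : Fin 2 ⊕ Fin k → F := Sum.elim ![a, b] 1

theorem sim_uMat {L : Matrix (Fin k) (Fin k) F} (h : RegLower L) : Sim L uMat := by
  rcases Nat.eq_zero_or_pos k with rfl | hk
  · exact Sim.of_eq (Subsingleton.elim _ _)
  · obtain ⟨X, hX⟩ := h.conj hk
    exact (Sim.of_units X hX).symm

theorem regLower_transpose_uMat : RegLower ((uMat : Matrix (Fin k) (Fin k) F)ᵀ) := by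
  refine ⟨fun i j h => ?_, fun i => ?_, fun i j h => ?_⟩
  · simp only [transpose_apply, uMat, Matrix.of_apply]
    rw [if_neg (by omega), if_neg (by omega), add_zero]
  · simp [uMat]
  · simp only [transpose_apply, uMat, Matrix.of_apply]
    rw [if_neg (by omega), if_pos h, zero_add]
    exact one_ne_zero

/-- The inverse of the Jordan block is similar to it. -/
theorem exists_uMat_inverse :
    ∃ J : Matrix (Fin k) (Fin k) F, uMat * J = 1 ∧ Sim uMat J := by
  have hu : IsUnit (uMat : Matrix (Fin k) (Fin k) F).det := by rw [det_uMat]; exact isUnit_one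
  refine ⟨uMat⁻¹, mul_nonsing_inv _ hu, ?_⟩
  rcases Nat.eq_zero_or_pos k with rfl | hk
  · exact Sim.of_eq (Subsingleton.elim _ _)
  have hJu := nonsing_inv_mul _ hu
  have huJ := mul_nonsing_inv _ hu
  have hJunit : IsUnit (uMat : Matrix (Fin k) (Fin k) F)⁻¹ :=
    (Matrix.isUnit_nonsing_inv_iff).2 ((Matrix.isUnit_iff_isUnit_det _).2 hu)
  generalize (uMat : Matrix (Fin k) (Fin k) F)⁻¹ = J at hJu huJ hJunit ⊢
  have hJN : J * nMat = 1 - J := by
    rw [uMat_eq, Matrix.mul_add, Matrix.mul_one] at hJu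
    exact eq_sub_of_add_eq' hJu
  have hJ1 : J - 1 = -J * nMat := by rw [Matrix.neg_mul, hJN, neg_sub]
  have hcomm : Commute (-J) (nMat : Matrix (Fin k) (Fin k) F) := by
    refine Commute.neg_left ?_
    show J * nMat = nMat * J
    rw [uMat_eq, Matrix.add_mul, Matrix.one_mul] at huJ
    rw [hJN, eq_sub_of_add_eq' huJ]
  obtain ⟨X, hX⟩ := conj_uMat_of_index hk J
    (by rw [hJ1, hcomm.mul_pow, nMat_pow_card, Matrix.mul_zero])
    (by
      rw [hJ1, hcomm.mul_pow]
      intro e
      apply nMat_pow_ne_zero (F := F) hk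
      have hne : IsUnit ((-J) ^ (k - 1)) :=
        (IsUnit.neg hJunit).pow _
      exact hne.mul_right_eq_zero.mp e)
  exact Sim.of_units X hX

theorem sim_model_of_blocks {a b : F} (hab : a ≠ b) (ha : a ≠ 1) (hb : b ≠ 1) (m : F)
    (Z : Matrix (Fin k) (Fin 2) F) {L : Matrix (Fin k) (Fin k) F} (hL : RegLower L) :
    Sim (Matrix.fromBlocks !![a, 0; m, b] 0 Z L) (model a b k) := by
  refine (sim_lower (h := (X - 1) ^ k) ⟨?_, ?_⟩ Z).trans (Sim.fromBlocks ?_ (sim_uMat hL))
  · rw [map_pow, map_sub, aeval_X, map_one, det_pow]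
    refine pow_ne_zero _ ?_
    rw [det_fin_two]
    simp [sub_eq_zero, ha, hb]
  · rw [map_pow, map_sub, aeval_X, map_one]
    rcases Nat.eq_zero_or_pos k with rfl | hk
    · exact Subsingleton.elim _ _
    obtain ⟨Y, hY⟩ := hL.conj hk
    have h1 : L - 1 = (Y : Matrix (Fin k) (Fin k) F) * nMat * (↑(Y⁻¹) : Matrix (Fin k) (Fin k) F) := by
      rw [hY, uMat_eq, Matrix.mul_add, Matrix.add_mul, Matrix.mul_one, Units.mul_inv, add_sub_cancel_left]
    have h2 : SemiconjBy (Y : Matrix (Fin k) (Fin k) F) nMat (L - 1) := by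
      show _ = _
      rw [h1, Units.inv_mul_cancel_right]
    have h3 := (h2.pow_right k).eq
    rw [nMat_pow_card, Matrix.mul_zero] at h3
    exact (Units.mul_left_eq_zero Y).mp h3.symm
  · refine ⟨!![1, 0; m / (b - a) * 1, 1], by simp [det_fin_two], ?_⟩
    have hba : b - a ≠ 0 := sub_ne_zero.2 hab.symm
    ext i j
    fin_cases i <;> fin_cases j <;> simp [Matrix.mul_apply, Fin.sum_univ_two]
    field_simp
    ring

theorem sim_model_lower {a b : F} (hab : a ≠ b) (ha : a ≠ 1) (hb : b ≠ 1)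
    {L : Matrix (Fin (2 + k)) (Fin (2 + k)) F} (hL : RegLower L) :
    Sim (L.submatrix finSumFinEquiv finSumFinEquiv * diagonal (diagD a b k)) (model a b k) ∧
      Sim (diagonal (diagD a b k) * L.submatrix finSumFinEquiv finSumFinEquiv) (model a b k) := by
  obtain ⟨h0, h1, h2⟩ := hL
  set L' := L.submatrix (finSumFinEquiv (m := 2) (n := k)) finSumFinEquiv
  have h22 : RegLower L'.toBlocks₂₂ := by
    refine ⟨fun i j h => h0 _ _ ?_, fun i => h1 _, fun i j h => h2 _ _ ?_⟩ <;> simp <;> omega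
  have h12 : L'.toBlocks₁₂ = 0 := by
    ext i j
    refine h0 _ _ ?_
    simp
    omega
  have e01 : L' (Sum.inl 0) (Sum.inl 1) = 0 := h0 _ _ (by simp)
  have d0 : ∀ i, L' i i = 1 := fun i => h1 _
  have hM : ∀ (M : Matrix (Fin 2 ⊕ Fin k) (Fin 2 ⊕ Fin k) F) (m : F),
      M (Sum.inl 0) (Sum.inl 0) = a → M (Sum.inl 0) (Sum.inl 1) = 0 → M (Sum.inl 1) (Sum.inl 0) = m →
      M (Sum.inl 1) (Sum.inl 1) = b → M.toBlocks₁₂ = 0 → M.toBlocks₂₂ = L'.toBlocks₂₂ →
      Sim M (model a b k) := by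
    intro M m p00 p01 p10 p11 q12 q22
    have := sim_model_of_blocks hab ha hb m M.toBlocks₂₁ h22
    convert this using 1
    conv_lhs => rw [← fromBlocks_toBlocks M, q12, q22]
    congr 1
    ext i j
    fin_cases i <;> fin_cases j <;> simp [toBlocks₁₁, p00, p01, p10, p11]
  refine ⟨hM _ (L' (Sum.inl 1) (Sum.inl 0) * a) ?_ ?_ ?_ ?_ ?_ ?_,
    hM _ (b * L' (Sum.inl 1) (Sum.inl 0)) ?_ ?_ ?_ ?_ ?_ ?_⟩
  all_goals first
    | simp [mul_diagonal, diagonal_mul, diagD, d0, e01]; done
    | (ext i j; simp [toBlocks₂₂, mul_diagonal, diagonal_mul, diagD]; done)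
    | (ext i j
       have h := congrFun (congrFun h12 i) j
       simp only [toBlocks₁₂, of_apply, Matrix.zero_apply] at h
       simp [toBlocks₁₂, mul_diagonal, diagonal_mul, diagD, h])

theorem isComm_LU {x : F} (hx : x ≠ x⁻¹) (hx1 : x ≠ 1)
    {L U : Matrix (Fin (2 + k)) (Fin (2 + k)) F} (hL : RegLower L)
    (hU : RegLower U ∨ RegUpper U) : IsComm (L * U) := by
  have hx0 : x ≠ 0 := by rintro rfl; simp at hx
  have hx1' : x⁻¹ ≠ 1 := fun e => hx1 (inv_eq_one.mp e)
  obtain ⟨J, hJ, hJs⟩ := exists_uMat_inverse (F := F) (k := k)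
  set e := (finSumFinEquiv (m := 2) (n := k))
  set D := diagonal (diagD x x⁻¹ k)
  set D' := diagonal (diagD x⁻¹ x k)
  have hDD : D * D' = 1 := by
    rw [diagonal_mul_diagonal]
    rw [← diagonal_one]
    congr 1
    funext i
    rcases i with i | i
    · fin_cases i <;> simp [diagD, hx0]
    · simp [diagD]
  set T := model x x⁻¹ k
  set T' : Matrix (Fin 2 ⊕ Fin k) (Fin 2 ⊕ Fin k) F :=
    Matrix.fromBlocks (diagonal ![x⁻¹, x]) 0 0 J
  have hTT : T * T' = 1 := by
    simp only [T, T', model, fromBlocks_multiply, Matrix.mul_zero, Matrix.zero_mul, add_zero, zero_add,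
      hJ, diagonal_mul_diagonal]
    convert fromBlocks_one using 2
    rw [← diagonal_one]
    congr 1
    funext i
    fin_cases i <;> simp [hx0]
  have hN : Sim (D' * U.submatrix e e) T' := by
    rcases hU with hU | hU
    · exact (sim_model_lower hx.symm hx1' hx1 hU).2.trans (Sim.fromBlocks (Sim.refl _) hJs)
    · obtain ⟨P, hP, hPe⟩ := (sim_model_lower (k := k) hx.symm hx1' hx1 hU).1
      have h2 : Sim (D' * U.submatrix e e) (model x⁻¹ x k)ᵀ := by
        refine Sim.symm ⟨Pᵀ, by rwa [det_transpose], ?_⟩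
        have := congrArg Matrix.transpose hPe
        simp only [transpose_mul, diagonal_transpose, transpose_submatrix, transpose_transpose] at this
        exact this.symm
      refine h2.trans ?_
      rw [model, fromBlocks_transpose, diagonal_transpose, transpose_zero, transpose_zero]
      exact Sim.fromBlocks (Sim.refl _) ((sim_uMat regLower_transpose_uMat).trans hJs)
  obtain ⟨P, hP, hPM⟩ := ((sim_model_lower hx hx1 hx1' hL).1).symm
  obtain ⟨R, hR, hRN⟩ := hN
  have hPu : IsUnit P.det := isUnit_iff_ne_zero.2 hP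
  have hRu : IsUnit R.det := isUnit_iff_ne_zero.2 hR
  set C := R * P
  refine IsComm.of_reindex e.symm ?_
  rw [reindex_apply, Equiv.symm_symm, submatrix_mul L U e e e e.bijective]
  have hfac : L.submatrix e e * U.submatrix e e =
      (L.submatrix e e * D) * (D' * U.submatrix e e) := by
    rw [Matrix.mul_assoc, ← Matrix.mul_assoc D, hDD, Matrix.one_mul]
  set g := L.submatrix e e * U.submatrix e e
  have hTT' : T' * T = 1 := mul_eq_one_comm.mp hTT
  -- the conjugate of `g` by `R`
  have hsim : Sim g (C * T * C⁻¹ * T') := by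
    refine ⟨R, hR, ?_⟩
    have hCP : C⁻¹ = P⁻¹ * R⁻¹ := Matrix.mul_inv_rev R P
    rw [hfac, hCP]
    have hM : (L.submatrix e e * D) = P * T * P⁻¹ := by
      rw [hPM, Matrix.mul_assoc, mul_nonsing_inv _ hPu, Matrix.mul_one]
    rw [hM]
    simp only [C, Matrix.mul_assoc]
    rw [← hRN, ← Matrix.mul_assoc R⁻¹ R, nonsing_inv_mul _ hRu, Matrix.one_mul]
  refine IsComm.of_sim ?_ hsim.symm
  have hCu : IsUnit C.det := by rw [det_mul]; exact hRu.mul hPu
  refine isComm_of_witness (Y := T) (C := C) ?_ ?_ ?_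
  · rw [show T = Matrix.fromBlocks (diagonal ![x, x⁻¹]) 0 0 uMat from rfl, det_fromBlocks_zero₂₁,
      det_diagonal, det_uMat, mul_one, Fin.prod_univ_two]
    simp [hx0]
  · calc C * T * C⁻¹ * T' * (T * C) = C * T * C⁻¹ * (T' * T) * C := by simp only [Matrix.mul_assoc]
      _ = C * T * (C⁻¹ * C) := by rw [hTT', Matrix.mul_one, Matrix.mul_assoc]
      _ = C * T := by rw [nonsing_inv_mul _ hCu, Matrix.mul_one]
  · refine ⟨Matrix.fromBlocks (diagonal ![(C.det)⁻¹, 1]) 0 0 1, ?_, ?_⟩
    · simp only [T, model, fromBlocks_multiply, Matrix.mul_zero, Matrix.zero_mul, add_zero, zero_add,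
        Matrix.one_mul, Matrix.mul_one, diagonal_mul_diagonal]
      congr 2
      funext i
      exact mul_comm _ _
    · rw [det_fromBlocks_zero₂₁, det_diagonal, det_one, mul_one, Fin.prod_univ_two]
      simp [hCu.ne_zero]

/-- Nonscalar unimodular matrices over a field with four or more elements are commutators. -/
theorem isComm_large (hK : 4 ≤ Cardinal.mk F) {n : ℕ} (hn : 2 ≤ n) (g : Matrix (Fin n) (Fin n) F)
    (hg : ∀ c : F, g ≠ c • 1) (hdet : g.det = 1) : IsComm g := by
  classical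
  obtain ⟨T, hT⟩ := exists_four hK
  obtain ⟨x, -, hx⟩ := Finset.exists_mem_notMem_of_card_lt_card (s := ({0, 1, -1} : Finset F)) (t := T)
    (by have := Finset.card_le_three (a := (0 : F)) (b := 1) (c := -1); omega)
  simp only [Finset.mem_insert, Finset.mem_singleton, not_or] at hx
  obtain ⟨hx0, hx1, hx2⟩ := hx
  have hxx : x ≠ x⁻¹ := fun e => by
    have : x * x = 1 := by nth_rewrite 2 [e]; exact mul_inv_cancel₀ hx0
    rcases mul_self_eq_one_iff.mp this with h | h <;> contradiction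
  set A : Module.End F (Fin n → F) := Matrix.toLin' g with hA
  have hgA : LinearMap.toMatrix' A = g := LinearMap.toMatrix'_toLin' g
  have hAdet : LinearMap.det A = 1 := by rw [hA, LinearMap.det_toLin', hdet]
  have hsc : ∀ μ : F, A ≠ μ • 1 := by
    intro μ e
    refine hg μ ?_
    rw [← hgA, e, map_smul, LinearMap.toMatrix'_one]
  suffices h : ∃ (b : Module.Basis (Fin n) F (Fin n → F))
      (L U : Matrix (Fin n) (Fin n) F),
      RegLower L ∧ (RegLower U ∨ RegUpper U) ∧ LinearMap.toMatrix b b A = L * U by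
    obtain ⟨b, L, U, hL, hU, hLU⟩ := h
    obtain ⟨X, hX⟩ := toMatrix'_eq_conj A b
    rw [hLU, hgA] at hX
    obtain ⟨k, rfl⟩ := Nat.exists_eq_add_of_le hn
    exact (isComm_LU hxx hx1 hL hU).of_sim (Sim.of_units X hX)
  by_cases hr : 2 ≤ Module.finrank F (LinearMap.range (A - 1))
  · obtain ⟨j, rfl⟩ : ∃ j, n = j + 1 := ⟨n - 1, by omega⟩
    obtain ⟨b, L, U, hL, hU, hLU, -, -⟩ := exists_LU T hT (exists_five hK) j _
      (Module.finrank_fin_fun F) A hAdet (fun _ => ⟨hr, hsc⟩) (Pi.single 0 1) (by simp)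
      (LinearMap.proj 0) (fun e => by simpa using LinearMap.congr_fun e (Pi.single 0 1))
    exact ⟨b, L, U, hL, Or.inr hU, hLU⟩
  · obtain ⟨j, rfl⟩ : ∃ j, n = j + 2 := ⟨n - 2, by omega⟩
    obtain ⟨b, hb⟩ := exists_basis_transvection A hAdet
      (fun e => hsc 1 (by rw [one_smul, e])) (by omega)
    obtain ⟨L, U, hL, hU, hLU⟩ := transvection_LU (n := j) T hT
    exact ⟨b, L, U, hL, Or.inl hU, hb.trans hLU⟩

end CfsgLib.OreSL
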