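import Cfsg.Agent.OreSL.Basic
import Mathlib.RingTheory.Polynomial.Basic
import Mathlib.LinearAlgebra.FiniteDimensional.Lemmas

/-!
# Commutators by Schur complements

If a matrix has an invertible leading block `G` with Schur complement `S`, and `G` and `S` are
commutators with witnesses whose spectra are disjoint, then the matrix is a commutator.
-/

set_option autoImplicit false

namespace CfsgLib.OreSL

open Matrix Polynomial

variable {F : Type*} [Field F] {ι κ : Type*} [Fintype ι] [DecidableEq ι] [Fintype κ] [DecidableEq κ]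

/-- The polynomial `h` annihilates `B` and is invertible on `A`: their spectra are disjoint. -/
def Disjoint (h : F[X]) (A : Matrix ι ι F) (B : Matrix κ κ F) : Prop :=
  (aeval A h).det ≠ 0 ∧ aeval B h = 0

theorem aeval_intertwine (p : F[X]) {A : Matrix ι ι F} {B : Matrix κ κ F} {R : Matrix ι κ F}
    (h : A * R = R * B) : aeval A p * R = R * aeval B p := by
  induction p using Polynomial.induction_on' with
  | add p q hp hq => rw [map_add, map_add, Matrix.add_mul, Matrix.mul_add, hp, hq]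
  | monomial k a =>
    have hk : A ^ k * R = R * B ^ k := by
      induction k with
      | zero => simp
      | succ k ih =>
        rw [pow_succ, Matrix.mul_assoc, h, ← Matrix.mul_assoc, ih, Matrix.mul_assoc, ← pow_succ]
    rw [aeval_monomial, aeval_monomial, ← Algebra.smul_def, ← Algebra.smul_def, Matrix.smul_mul,
      Matrix.mul_smul, hk]

theorem aeval_intertwine' {A A' : Matrix ι ι F} {P : Matrix ι ι F} (p : F[X]) (h : A' * P = P * A) :
    aeval A' p * P = P * aeval A p :=
  aeval_intertwine p h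

/-- Sylvester's equation with disjoint spectra is solvable, in both orientations. -/
theorem sylvester {A : Matrix ι ι F} {B : Matrix κ κ F} {h : F[X]} (hd : Disjoint h A B)
    (Z : Matrix ι κ F) : ∃ R : Matrix ι κ F, A * R - R * B = Z := by
  let T : Matrix ι κ F →ₗ[F] Matrix ι κ F :=
    { toFun := fun R => A * R - R * B
      map_add' := fun R S => by rw [Matrix.mul_add, Matrix.add_mul]; abel
      map_smul' := fun c R => by simp [Matrix.mul_smul, Matrix.smul_mul, smul_sub] }
  refine (LinearMap.injective_iff_surjective (f := T)).mp ((injective_iff_map_eq_zero T).mpr ?_) Z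
  intro R hR
  have := aeval_intertwine h (sub_eq_zero.mp (hR : A * R - R * B = 0))
  rw [hd.2, Matrix.mul_zero] at this
  have h2 := congrArg (fun M => (aeval A h)⁻¹ * M) this
  simp only [Matrix.mul_zero, ← Matrix.mul_assoc] at h2
  rwa [nonsing_inv_mul _ (isUnit_iff_ne_zero.2 hd.1), Matrix.one_mul] at h2

theorem aeval_transpose (M : Matrix ι ι F) (p : F[X]) : aeval Mᵀ p = (aeval M p)ᵀ := by
  induction p using Polynomial.induction_on' with
  | add p q hp hq => rw [map_add, map_add, transpose_add, hp, hq]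
  | monomial k a =>
    rw [aeval_monomial, aeval_monomial, ← Algebra.smul_def, ← Algebra.smul_def, transpose_smul,
      transpose_pow]

theorem sylvester' {A : Matrix ι ι F} {B : Matrix κ κ F} {h : F[X]} (hd : Disjoint h A B)
    (Z : Matrix κ ι F) : ∃ R : Matrix κ ι F, R * A - B * R = Z := by
  obtain ⟨R, hR⟩ := sylvester (A := Aᵀ) (B := Bᵀ) (h := h)
    ⟨by rw [aeval_transpose, det_transpose]; exact hd.1, by rw [aeval_transpose, hd.2, transpose_zero]⟩ Zᵀ
  refine ⟨Rᵀ, ?_⟩
  apply transpose_injective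
  rw [transpose_sub, transpose_mul, transpose_mul, transpose_transpose, hR]

/-- A block lower triangular matrix with disjoint spectra is block diagonalisable. -/
theorem sim_lower {A : Matrix ι ι F} {B : Matrix κ κ F} {h : F[X]} (hd : Disjoint h A B)
    (Z : Matrix κ ι F) : Sim (Matrix.fromBlocks A 0 Z B) (Matrix.fromBlocks A 0 0 B) := by
  obtain ⟨R, hR⟩ := sylvester' hd (-Z)
  refine ⟨Matrix.fromBlocks 1 0 R 1, by rw [det_fromBlocks_zero₁₂]; simp, ?_⟩
  rw [fromBlocks_multiply, fromBlocks_multiply]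
  simp only [Matrix.one_mul, Matrix.mul_one, Matrix.zero_mul, Matrix.mul_zero, add_zero, zero_add]
  rw [show R * A + Z = B * R by rw [sub_eq_iff_eq_add.mp hR]; abel]

/-- The Schur complement trick. -/
theorem exists_witness {G Y₁ C₁ : Matrix ι ι F} {S Y₂ C₂ : Matrix κ κ F} {h : F[X]}
    (hd : Disjoint h Y₁ Y₂) (hC₁ : C₁.det ≠ 0) (hC₂ : C₂.det ≠ 0) (h₁ : G * (Y₁ * C₁) = C₁ * Y₁)
    (h₂ : S * (Y₂ * C₂) = C₂ * Y₂) (r : Matrix ι κ F) (l : Matrix κ ι F) :
    ∃ Y C : Matrix (ι ⊕ κ) (ι ⊕ κ) F, Y.det = Y₁.det * Y₂.det ∧ C.det = C₁.det * C₂.det ∧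
      Matrix.fromBlocks G (G * r) (l * G) (l * G * r + S) * (Y * C) = C * Y ∧
      ∀ Z₁ Z₂, Z₁ * Y₁ = Y₁ * Z₁ → Z₂ * Y₂ = Y₂ * Z₂ →
        ∃ Z, Z * Y = Y * Z ∧ Z.det = Z₁.det * Z₂.det := by
  -- the upper factor
  obtain ⟨R, hR⟩ := sylvester hd (r * Y₂)
  -- the lower factor
  have hd' : Disjoint h (G * Y₁) (S * Y₂) := by
    have e₁ : (G * Y₁) * C₁ = C₁ * Y₁ := by rw [Matrix.mul_assoc, h₁]
    have e₂ : (S * Y₂) * C₂ = C₂ * Y₂ := by rw [Matrix.mul_assoc, h₂]
    refine ⟨fun e => ?_, ?_⟩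
    · have := congrArg Matrix.det (aeval_intertwine' h e₁)
      rw [det_mul, det_mul, e, zero_mul] at this
      exact mul_ne_zero hC₁ hd.1 this.symm
    · have := aeval_intertwine' h e₂
      rw [hd.2, Matrix.mul_zero] at this
      have h3 := congrArg (fun M => M * C₂⁻¹) this
      simp only [Matrix.zero_mul, Matrix.mul_assoc] at h3
      rwa [mul_nonsing_inv _ (isUnit_iff_ne_zero.2 hC₂), Matrix.mul_one] at h3
  obtain ⟨T, hT⟩ := sylvester' hd' (l * G * Y₁)
  have hR' : Y₁ * R = R * Y₂ + r * Y₂ := by rw [← sub_eq_iff_eq_add'.mp hR]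
  have hT' : T * (G * Y₁) = S * Y₂ * T + l * G * Y₁ := by rw [← sub_eq_iff_eq_add'.mp hT]
  set Y := Matrix.fromBlocks Y₁ (-(r * Y₂)) 0 Y₂ with hYdef
  set P := Matrix.fromBlocks (1 : Matrix ι ι F) R 0 (1 : Matrix κ κ F)
  set P' := Matrix.fromBlocks (1 : Matrix ι ι F) (-R) 0 (1 : Matrix κ κ F)
  set Q := Matrix.fromBlocks (1 : Matrix ι ι F) 0 T (1 : Matrix κ κ F)
  set D := Matrix.fromBlocks Y₁ 0 0 Y₂
  set D' := Matrix.fromBlocks (G * Y₁) 0 0 (S * Y₂)
  set C₀ := Matrix.fromBlocks C₁ 0 0 C₂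
  set g := Matrix.fromBlocks G (G * r) (l * G) (l * G * r + S)
  have hPP' : P * P' = 1 := by simp [P, P', fromBlocks_multiply, fromBlocks_one]
  have hP'P : P' * P = 1 := by simp [P, P', fromBlocks_multiply, fromBlocks_one]
  have hPD : P * D = Y * P := by
    simp only [P, D, Y, fromBlocks_multiply, Matrix.one_mul, Matrix.mul_one, Matrix.zero_mul,
      Matrix.mul_zero, add_zero, zero_add]
    rw [hR']
    simp [add_assoc]
  have hgY : g * Y = Matrix.fromBlocks (G * Y₁) 0 (l * G * Y₁) (S * Y₂) := by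
    simp only [g, Y, fromBlocks_multiply, Matrix.mul_zero, add_zero, Matrix.mul_neg, Matrix.mul_assoc,
      Matrix.add_mul]
    simp
  have hQD : Q * D' = g * Y * Q := by
    rw [hgY]
    simp only [Q, D', fromBlocks_multiply, Matrix.one_mul, Matrix.mul_one, Matrix.zero_mul,
      Matrix.mul_zero, add_zero, zero_add]
    rw [hT', add_comm (S * Y₂ * T)]
  have hC₀ : D' * C₀ = C₀ * D := by
    simp [D', C₀, D, fromBlocks_multiply, Matrix.mul_assoc, h₁, h₂]
  have hP'Y : D * P' = P' * Y := by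
    calc D * P' = P' * P * D * P' := by rw [hP'P, Matrix.one_mul]
      _ = P' * Y * (P * P') := by rw [Matrix.mul_assoc P' P D, hPD]; simp only [Matrix.mul_assoc]
      _ = P' * Y := by rw [hPP', Matrix.mul_one]
  refine ⟨Y, Q * C₀ * P', ?_, ?_, ?_, ?_⟩
  · rw [hYdef, det_fromBlocks_zero₂₁]
  · simp [Q, C₀, P', det_mul, det_fromBlocks_zero₂₁, det_fromBlocks_zero₁₂]
  · calc g * (Y * (Q * C₀ * P')) = g * Y * Q * C₀ * P' := by simp only [Matrix.mul_assoc]
      _ = Q * (D' * C₀) * P' := by rw [← hQD]; simp only [Matrix.mul_assoc]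
      _ = Q * C₀ * (D * P') := by rw [hC₀]; simp only [Matrix.mul_assoc]
      _ = Q * C₀ * P' * Y := by rw [hP'Y]; simp only [Matrix.mul_assoc]
  · intro Z₁ Z₂ hz₁ hz₂
    set W := Matrix.fromBlocks Z₁ 0 0 Z₂
    have hW : W * D = D * W := by simp [W, D, fromBlocks_multiply, hz₁, hz₂]
    refine ⟨P * W * P', ?_, by
      simp [P, W, P', det_mul, det_fromBlocks_zero₂₁]⟩
    calc P * W * P' * Y = P * W * (P' * Y) := Matrix.mul_assoc _ _ _
      _ = P * (W * D) * P' := by rw [← hP'Y]; simp only [Matrix.mul_assoc]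
      _ = P * D * W * P' := by rw [hW]; simp only [Matrix.mul_assoc]
      _ = Y * (P * W * P') := by rw [hPD]; simp only [Matrix.mul_assoc]

end CfsgLib.OreSL
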