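import Cfsg.Agent.OreSL.Groups

/-!
# Small fields: single blocks and triples
-/

set_option autoImplicit false

namespace CfsgLib.OreSL

open Matrix Polynomial

variable {F : Type*} [Field F]

/-- A single block of determinant one whose size is not two. -/
theorem isComm_single [Fintype F] (hq : Fintype.card F = 2 ∨ Fintype.card F = 3) (A : Blk F)
    (hA : A.mat.det = 1) (hm : A.m ≠ 1) : IsComm A.mat := by
  rcases Nat.lt_or_ge A.m 2 with h | h
  · have h0 : A.m = 0 := by omega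
    have hone : A.mat = 1 := by
      ext i j
      have : Subsingleton (Fin (A.m + 1)) := ⟨fun a b => Fin.ext (by omega)⟩
      rw [Subsingleton.elim i j, one_apply_eq, ← hA, det_eq_elem_of_subsingleton _ j]
    rw [hone]
    exact isComm_one
  · obtain ⟨G, Y₁, C₁, hG, hY₁, hC₁, hw₁, hGc, hd₁⟩ := leadWit_single hq h
    refine (corner_of_cyc A.cyc hGc hG).isComm (Y₁ := Y₁) (C₁ := C₁) (Y₂ := 1) (C₂ := 1) (p := X - 1)
      ⟨hd₁, by simp⟩ (by simp [hY₁]) hC₁ (by simp) hw₁ ?_ fun t _ => ⟨t • 1, by simp, by simp [det_unique]⟩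
    rw [Matrix.mul_one, Matrix.mul_one]
    ext i j
    simp [hA]

/-- Three blocks, with the data of the witness of the `3 × 3` Schur complement given. -/
theorem isComm_three (hu : ∀ t : F, t ≠ 0 → t = 1 ∨ t = -1) (A B D : Blk F) {p : F[X]}
    (hA : LeadWit p A.m) (hB : LeadWit p B.m) (hD : LeadWit p D.m) {a b d : F} (ha : A.mat.det = a)
    (hb : B.mat.det = b) (hd : D.mat.det = d) (Y C : Matrix (Fin 3) (Fin 3) F) (hY : Y.det = 1)
    (hC : C.det ≠ 0) (hw : diagonal ![a, b, d] * (Y * C) = C * Y) (hp : aeval Y p = 0) :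
    IsComm (Matrix.fromBlocks (Matrix.fromBlocks A.mat 0 0 B.mat) 0 0 D.mat) := by
  obtain ⟨G₁, Y₁, C₁, hG₁, hY₁, hC₁, hw₁, hc₁, hd₁⟩ := hA
  obtain ⟨G₂, Y₂, C₂, hG₂, hY₂, hC₂, hw₂, hc₂, hd₂⟩ := hB
  obtain ⟨G₃, Y₃, C₃, hG₃, hY₃, hC₃, hw₃, hc₃, hd₃⟩ := hD
  have hc := (((corner_of_cyc A.cyc hc₁ hG₁).sum (corner_of_cyc B.cyc hc₂ hG₂)).sum
    (corner_of_cyc D.cyc hc₃ hG₃)).reindexRight
    ((Equiv.sumCongr ((Equiv.sumCongr finOneEquiv.symm finOneEquiv.symm).trans finSumFinEquiv)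
      finOneEquiv.symm).trans finSumFinEquiv : (Unit ⊕ Unit) ⊕ Unit ≃ Fin 3)
  refine hc.isComm (Y₁ := Matrix.fromBlocks (Matrix.fromBlocks Y₁ 0 0 Y₂) 0 0 Y₃)
    (C₁ := Matrix.fromBlocks (Matrix.fromBlocks C₁ 0 0 C₂) 0 0 C₃) (Y₂ := Y) (C₂ := C) (p := p)
    ⟨?_, hp⟩ ?_ ?_ hC ?_ ?_ ?_
  · rw [aeval_fromBlocks, aeval_fromBlocks, det_fromBlocks_zero₂₁, det_fromBlocks_zero₂₁]
    exact mul_ne_zero (mul_ne_zero hd₁ hd₂) hd₃
  · simp [det_fromBlocks_zero₂₁, hY₁, hY₂, hY₃, hY]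
  · simp [det_fromBlocks_zero₂₁, hC₁, hC₂, hC₃]
  · simp [fromBlocks_multiply, hw₁, hw₂, hw₃]
  · rw [← hw]
    congr 1
    ext i j
    rw [ha, hb, hd]
    fin_cases i <;> fin_cases j <;> simp [finSumFinEquiv, finOneEquiv, diagonal, Fin.addCases]
  · intro t ht
    refine ⟨t • 1, by simp, ?_⟩
    rcases hu t ht with rfl | rfl <;> simp [det_neg] <;> norm_num

/-- Three blocks of size two and determinant one. -/
theorem isComm_triple_one (hu : ∀ t : F, t ≠ 0 → t = 1 ∨ t = -1) (A B D : Blk F) (hA : A.m = 1)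
    (hB : B.m = 1) (hD : D.m = 1) (ha : A.mat.det = 1) (hb : B.mat.det = 1) (hd : D.mat.det = 1) :
    IsComm (Matrix.fromBlocks (Matrix.fromBlocks A.mat 0 0 B.mat) 0 0 D.mat) := by
  have he : (X ^ 3 - X - 1 : F[X]).eval 1 ≠ 0 := by simp
  refine isComm_three hu A B D (hA ▸ leadWit_one he) (hB ▸ leadWit_one he) (hD ▸ leadWit_one he) ha hb hd
    !![0, 0, 1; 1, 0, 1; 0, 1, 0] 1 ?_ (by simp) ?_ ?_
  · simp [det_fin_three]
  · rw [show (![1, 1, 1] : Fin 3 → F) = 1 by funext i; fin_cases i <;> rfl, Pi.one_def, diagonal_one,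
      Matrix.one_mul, Matrix.mul_one, Matrix.one_mul]
  · ext i j
    fin_cases i <;> fin_cases j <;> simp [pow_succ, Matrix.mul_apply, Fin.sum_univ_three, Matrix.vecMul]

/-- A block of size two and determinant one with two blocks of determinant `-1`. -/
theorem isComm_triple_two [Fintype F] (hq : Fintype.card F = 3)
    (hu : ∀ t : F, t ≠ 0 → t = 1 ∨ t = -1) (A B D : Blk F) (ha : A.mat.det = 1)
    (hb : B.mat.det = -1) (hd : D.mat.det = -1) :
    IsComm (Matrix.fromBlocks (Matrix.fromBlocks A.mat 0 0 B.mat) 0 0 D.mat) := by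
  have h3 : (3 : F) = 0 := by
    have := FiniteField.cast_card_eq_zero F
    rw [hq] at this
    exact_mod_cast this
  have h2 : (2 : F) ≠ 0 := fun e => one_ne_zero (by linear_combination h3 - e : (1 : F) = 0)
  set p : F[X] := (X + 1) * (X ^ 2 + X - 1)
  have he : p.eval 1 ≠ 0 := by
    simp [p, one_add_one_eq_two]
    exact ⟨h2, fun e => one_ne_zero (by linear_combination e : (1 : F) = 0)⟩
  have hl : ∀ m, LeadWit p m := leadWit_of_small (Or.inr hq) rfl
    (by compute_degree!) (by compute_degree!) he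
  refine isComm_three hu A B D (hl _) (hl _) (hl _) ha hb hd
    !![1, 0, 1; 1, 0, 0; 0, 1, 0] !![1, 0, 0; 0, -1, 0; 0, 0, 1] ?_ (by simp [det_fin_three]) ?_ ?_
  · simp [det_fin_three]
  · ext i j
    fin_cases i <;> fin_cases j <;> simp [Matrix.mul_apply, Fin.sum_univ_three, diagonal, Matrix.vecMul]
  · ext i j
    simp only [p, map_mul, map_add, map_sub, map_pow, aeval_X, map_one]
    fin_cases i <;> fin_cases j <;> simp [pow_succ, Matrix.mul_apply, Fin.sum_univ_three, Matrix.vecMul,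
      Matrix.one_apply]
    all_goals linear_combination h3

end CfsgLib.OreSL
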