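import Cfsg.Agent.OreSL.Schur
import Mathlib.FieldTheory.Finite.Extension
import Mathlib.RingTheory.Norm.Defs
import Mathlib.RingTheory.PowerBasis
import Mathlib.LinearAlgebra.Matrix.Basis

/-!
# Cyclic commutators with prescribed witnesses
-/

set_option autoImplicit false

namespace CfsgLib.OreSL

open Matrix Polynomial

variable {F : Type*} [Field F] {m : ℕ}

/-- `G` has a cyclic vector. -/
def IsCyc (G : Matrix (Fin m) (Fin m) F) : Prop :=
  ∃ w : Fin m → F, LinearIndependent F fun i : Fin m => (G ^ (i : ℕ)) *ᵥ w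

/-- The exponent inequality behind the primitive element. -/
theorem exp_lt (q d m : ℕ) (hq : q = 2 ∨ q = 3) (hm2 : 2 ≤ m) (hm : q = 3 → 3 ≤ m) (hd : 1 ≤ d)
    (hdm : 2 * d ≤ m) : (q - 1) ^ 2 * (q ^ d - 1) < q ^ m - 1 := by
  rcases hq with rfl | rfl
  · have : 2 ^ d < 2 ^ m := Nat.pow_lt_pow_right (by norm_num) (by omega)
    have := Nat.one_le_two_pow (n := d)
    norm_num
    omega
  · have h3 : 1 ≤ 3 ^ d := Nat.one_le_pow _ _ (by norm_num)
    rcases eq_or_lt_of_le hd with rfl | hd2
    · have : 3 ^ 3 ≤ 3 ^ m := Nat.pow_le_pow_right (by norm_num) (hm rfl)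
      norm_num at this ⊢
      omega
    · have h1 : 3 ^ 2 ≤ 3 ^ d := Nat.pow_le_pow_right (by norm_num) hd2
      have h2 : 3 ^ d * 3 ^ d ≤ 3 ^ m := by
        rw [← pow_add]; exact Nat.pow_le_pow_right (by norm_num) (by omega)
      have : 9 * 3 ^ d ≤ 3 ^ d * 3 ^ d := Nat.mul_le_mul_right _ (by simpa using h1)
      norm_num
      omega

theorem field_witness [Fintype F] {K : Type*} [Field K] [Fintype K] [Algebra F K]
    (hfin : Module.finrank F K = m) (hq : Fintype.card F = 2 ∨ Fintype.card F = 3) (hm2 : 2 ≤ m)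
    (hm : Fintype.card F = 3 → 3 ≤ m) :
    ∃ G Y C : Matrix (Fin m) (Fin m) F, Y.det = 1 ∧ C.det ≠ 0 ∧ G * (Y * C) = C * Y ∧ IsCyc G ∧
      ∀ h : F[X], h ≠ 0 → h.natDegree < m → (aeval Y h).det ≠ 0 := by
  classical
  haveI : FiniteDimensional F K := Module.finite_of_finrank_pos (by omega)
  have hcardK : Fintype.card K = Fintype.card F ^ m := by
    rw [Module.card_eq_pow_finrank (K := F) (V := K), hfin]
  -- a generator of the multiplicative group
  obtain ⟨η, hη⟩ := IsCyclic.exists_generator (α := Kˣ)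
  have hord : orderOf η = (Fintype.card F) ^ m - 1 := by
    rw [orderOf_eq_card_of_forall_mem_zpowers hη, Nat.card_eq_fintype_card, Fintype.card_units, hcardK]
  set θ : K := (η : K) ^ ((Fintype.card F) - 1) with hθ
  set γ : K := θ ^ ((Fintype.card F) - 1)
  have hint : ∀ x : K, IsIntegral F x := fun x => IsIntegral.of_finite F x
  -- the degree of `γ`
  have hdegγ : (minpoly F γ).natDegree = m := by
    set E := IntermediateField.adjoin F {γ}
    have hE : Module.finrank F E = (minpoly F γ).natDegree := IntermediateField.adjoin.finrank (hint γ)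
    have hdvd : Module.finrank F E ∣ m := ⟨Module.finrank E K, by rw [Module.finrank_mul_finrank, hfin]⟩
    rw [← hE]
    by_contra hne
    obtain ⟨c, hc⟩ := hdvd
    have hdvd' := hc
    have hd0 : 0 < Module.finrank F E := Module.finrank_pos
    have hc2 : 2 ≤ c := by
      by_contra hc1
      interval_cases c
      · omega
      · exact hne (by rw [hc, mul_one])
    have hdm : 2 * Module.finrank F E ≤ m := by
      have := Nat.mul_le_mul_left (Module.finrank F E) hc2
      omega
    letI : Fintype E := Fintype.ofFinite E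
    have hpow : γ ^ ((Fintype.card F) ^ Module.finrank F E) = γ := by
      have h := FiniteField.pow_card (⟨γ, IntermediateField.mem_adjoin_simple_self F γ⟩ : E)
      rw [Module.card_eq_pow_finrank (K := F) (V := E)] at h
      exact congrArg Subtype.val h
    have hγ : γ = (η : K) ^ (((Fintype.card F) - 1) ^ 2) := by rw [sq, pow_mul]
    have h1 : η ^ (((Fintype.card F) - 1) ^ 2 * ((Fintype.card F) ^ Module.finrank F E - 1)) = 1 := by
      rw [pow_mul]
      apply Units.ext
      rw [Units.val_pow_eq_pow_val, Units.val_pow_eq_pow_val, ← hγ, Units.val_one]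
      have hγ0 : γ ≠ 0 := by rw [hγ]; exact pow_ne_zero _ η.ne_zero
      apply mul_right_cancel₀ hγ0
      rw [← pow_succ, Nat.sub_add_cancel (Nat.one_le_pow _ _ Fintype.card_pos), hpow, one_mul]
    have h2 := orderOf_dvd_of_pow_eq_one h1
    rw [hord] at h2
    have h3 := exp_lt (Fintype.card F) (Module.finrank F E) m hq hm2 hm hd0 hdm
    refine absurd (Nat.le_of_dvd (Nat.mul_pos (pow_pos ?_ 2) ?_) h2) (by omega)
    · have := Fintype.one_lt_card (α := F); omega
    · have := Nat.one_lt_pow hd0.ne' (Fintype.one_lt_card (α := F))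
      omega
  have hdegθ : (minpoly F θ).natDegree = m := by
    refine le_antisymm (hfin ▸ minpoly.natDegree_le θ) ?_
    have hle : IntermediateField.adjoin F {γ} ≤ IntermediateField.adjoin F {θ} := by
      rw [IntermediateField.adjoin_simple_le_iff]
      exact pow_mem (IntermediateField.mem_adjoin_simple_self F θ) _
    have := IntermediateField.finrank_le_of_le_right hle
    rw [IntermediateField.adjoin.finrank (hint θ), IntermediateField.adjoin.finrank (hint γ), hdegγ] at this
    exact this
  let b : Module.Basis (Fin m) F K := Module.finBasisOfFinrankEq F K hfin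
  let M := Algebra.leftMulMatrix b
  let φ : K ≃ₐ[F] K := FiniteField.frobeniusAlgEquivOfAlgebraic F K
  set C := LinearMap.toMatrix b b φ.toLinearMap
  refine ⟨M γ, M θ, C, ?_, ?_, ?_, ?_, ?_⟩
  · rw [← Algebra.norm_eq_matrix_det, map_pow]
    exact FiniteField.pow_card_sub_one_eq_one _ (fun e => η.ne_zero (Algebra.norm_eq_zero_iff.mp e))
  · rw [LinearMap.det_toMatrix]
    exact (φ.toLinearEquiv.isUnit_det').ne_zero
  · simp only [M, C, Algebra.leftMulMatrix_apply, ← LinearMap.toMatrix_mul]
    congr 1
    ext x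
    simp only [Module.End.mul_apply, Algebra.coe_lmul_eq_mul, LinearMap.mul_apply']
    change γ * (θ * φ x) = φ (θ * x)
    rw [map_mul, ← mul_assoc]
    congr 1
    rw [show φ θ = θ ^ Fintype.card F from rfl, ← pow_succ, Nat.sub_add_cancel Fintype.card_pos]
  · refine ⟨b.repr 1, ?_⟩
    have hli : LinearIndependent F fun i : Fin m => γ ^ (i : ℕ) := by
      have := linearIndependent_pow (K := F) γ
      exact this.comp (Fin.cast hdegγ.symm) (Fin.cast_injective _)
    have := hli.map' b.equivFun.toLinearMap b.equivFun.ker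
    have he : (fun i : Fin m => M γ ^ (i : ℕ) *ᵥ (b.repr 1 : Fin m → F)) =
        ⇑b.equivFun.toLinearMap ∘ fun i : Fin m => γ ^ (i : ℕ) := by
      funext i
      show M γ ^ (i : ℕ) *ᵥ (b.repr 1 : Fin m → F) = _
      rw [← map_pow]
      simp only [M, Algebra.leftMulMatrix_mulVec_repr, mul_one]
      rfl
    rw [he]
    exact this
  · intro h hh hdeg
    rw [aeval_algHom_apply M θ h, ← Algebra.norm_eq_matrix_det]
    refine Algebra.norm_ne_zero_iff.mpr fun e => ?_
    have := natDegree_le_of_dvd (minpoly.dvd F θ e) hh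
    omega

/-- A cyclic commutator whose witness has an irreducible characteristic polynomial. -/
theorem exists_field_witness [Fintype F] (hq : Fintype.card F = 2 ∨ Fintype.card F = 3) (hm2 : 2 ≤ m)
    (hm : Fintype.card F = 3 → 3 ≤ m) :
    ∃ G Y C : Matrix (Fin m) (Fin m) F, Y.det = 1 ∧ C.det ≠ 0 ∧ G * (Y * C) = C * Y ∧ IsCyc G ∧
      ∀ h : F[X], h ≠ 0 → h.natDegree < m → (aeval Y h).det ≠ 0 := by
  haveI : NeZero m := ⟨by omega⟩
  obtain ⟨p, _⟩ := CharP.exists F
  haveI : Fact p.Prime := ⟨CharP.char_is_prime F p⟩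
  letI : Fintype (FiniteField.Extension F p m) := Fintype.ofFinite _
  exact field_witness (FiniteField.finrank_extension F p m) hq hm2 hm

theorem aeval_unipotent (p : F[X]) : ∃ c : F, aeval !![(1 : F), 1; 0, 1] p = !![p.eval 1, c; 0, p.eval 1] := by
  induction p using Polynomial.induction_on' with
  | add p q hp hq =>
    obtain ⟨a, ha⟩ := hp
    obtain ⟨b, hb⟩ := hq
    exact ⟨a + b, by rw [map_add, ha, hb, eval_add]; ext i j; fin_cases i <;> fin_cases j <;> simp⟩
  | monomial k a =>
    have hk : !![(1 : F), 1; 0, 1] ^ k = !![1, (k : F); 0, 1] := by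
      induction k with
      | zero => ext i j; fin_cases i <;> fin_cases j <;> simp
      | succ k ih =>
        rw [pow_succ, ih]
        ext i j
        fin_cases i <;> fin_cases j <;> simp [Matrix.mul_apply, Fin.sum_univ_two, add_comm]
    refine ⟨a * k, ?_⟩
    rw [aeval_monomial, ← Algebra.smul_def, hk, eval_monomial, one_pow, mul_one]
    ext i j
    fin_cases i <;> fin_cases j <;> simp

/-- A cyclic commutator of size two with a unipotent witness. -/
theorem exists_unipotent_witness :
    ∃ G Y C : Matrix (Fin 2) (Fin 2) F, Y.det = 1 ∧ C.det ≠ 0 ∧ G * (Y * C) = C * Y ∧ IsCyc G ∧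
      ∀ h : F[X], h.eval 1 ≠ 0 → (aeval Y h).det ≠ 0 := by
  refine ⟨!![1, -1; -1, 2], !![1, 1; 0, 1], !![0, 1; -1, 0], by simp [det_fin_two],
    by simp [det_fin_two], ?_, ⟨![1, 0], ?_⟩, fun h hh => ?_⟩
  · ext i j
    fin_cases i <;> fin_cases j <;> simp [Matrix.mul_apply, Fin.sum_univ_two] <;> ring
  · rw [Fintype.linearIndependent_iff]
    intro c hc
    have e0 := congrFun hc 0
    have e1 := congrFun hc 1
    simp [Fin.sum_univ_two, Matrix.mulVec, dotProduct] at e0 e1
    intro i
    fin_cases i
    · simpa [e1] using e0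
    · exact e1
  · obtain ⟨c, hc⟩ := aeval_unipotent h
    rw [hc, det_fin_two]
    simpa using hh

end CfsgLib.OreSL
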